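import Groth.Agent.DivDescMod.Module
import Groth.Agent.S0233
import Groth.Agent.PicRelBC.Basic
import Mathlib

/-!
Invertible modules on a product with an open of affine space over a normal base.
-/

set_option autoImplicit false
set_option linter.style.haveILetI false
set_option backward.isDefEq.respectTransparency false

universe u

open CategoryTheory CategoryTheory.Limits AlgebraicGeometry TopologicalSpace Opposite

noncomputable section

namespace Groth.Agent.DivDescMod

variable {S : Scheme.{u}} {n : Type u} {U : (𝔸(n; S)).Opens}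

theorem flat_affineSpace (n : Type u) (S : Scheme.{u}) : Flat (𝔸(n; S) ↘ S) := by
  refine MorphismProperty.pullback_fst (P := @Flat) _ _ ?_
  have := isIso_of_isTerminal specULiftZIsTerminal.{u} terminalIsTerminal (terminal.from _)
  rw [← terminal.comp_from (Spec.map (CommRingCat.ofHom MvPolynomial.C)),
    MorphismProperty.cancel_right_of_respectsIso (P := @Flat),
    HasRingHomProperty.Spec_iff (P := @Flat)]
  exact RingHom.flat_algebraMap_iff.mpr inferInstance

/-- The product with an open of affine space is an open of affine space over the factor. -/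
theorem exists_openImmersion {T : Scheme.{u}} (t : T ⟶ S) :
    ∃ j : pullback t (U.ι ≫ (𝔸(n; S) ↘ S)) ⟶ 𝔸(n; T), IsOpenImmersion j := by
  let q := pullback.fst t (U.ι ≫ (𝔸(n; S) ↘ S))
  let r := pullback.snd t (U.ι ≫ (𝔸(n; S) ↘ S))
  have h := AffineSpace.isPullback_map (n := n) t
  let j := h.lift (r ≫ U.ι) q (by rw [Category.assoc]; exact pullback.condition.symm)
  have hj : IsPullback j r (AffineSpace.map n t) U.ι := by
    refine IsPullback.of_right ?_ (h.lift_fst _ _ _) h.flip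
    rw [h.lift_snd]
    exact IsPullback.of_hasPullback t (U.ι ≫ (𝔸(n; S) ↘ S))
  exact ⟨j, MorphismProperty.of_isPullback (P := @IsOpenImmersion) hj.flip inferInstance⟩

theorem exists_fibre_openImmersion {Y : Scheme.{u}} (g : Y ⟶ S) (y : Y) :
    ∃ j : (pullback.fst g (U.ι ≫ (𝔸(n; S) ↘ S))).fiber y ⟶ Spec (.of (MvPolynomial n (Y.residueField y))),
      IsOpenImmersion j := by
  let k := Y.fromSpecResidueField y
  have h1 := (IsPullback.of_hasPullback (pullback.fst g (U.ι ≫ (𝔸(n; S) ↘ S))) k).paste_horiz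
    (IsPullback.of_hasPullback g (U.ι ≫ (𝔸(n; S) ↘ S))).flip
  obtain ⟨j, hj⟩ := exists_openImmersion (U := U) (k ≫ g)
  haveI := hj
  exact ⟨h1.flip.isoPullback.hom ≫ j ≫ (AffineSpace.SpecIso n (Y.residueField y)).hom, inferInstance⟩

theorem nonempty_trivial_of_openImmersion {F : Scheme.{u}} {R : Type u} [CommRing R] [IsDomain R]
    [UniqueFactorizationMonoid R] (j : F ⟶ Spec (CommRingCat.of R)) [IsOpenImmersion j] {L : F.Modules}
    (hL : PicF.IsInvertible L) : Nonempty (L ≅ Coh.structureModule F) := by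
  let e : F ≅ (j.opensRange : Scheme.{u}) := j.isoOpensRange
  obtain ⟨i⟩ := S0233.result R j.opensRange ((Scheme.Modules.pullback e.inv).obj L)
    (PicLoc.isInvertible_pullback e.inv hL)
  exact ⟨((Scheme.Modules.pullbackId F).app L).symm ≪≫
    ((Scheme.Modules.pullbackCongr e.hom_inv_id.symm).app L) ≪≫
    ((Scheme.Modules.pullbackComp e.hom e.inv).app L).symm ≪≫
    (Scheme.Modules.pullback e.hom).mapIso i ≪≫ PicLoc.pullbackStructureIso e.hom⟩

theorem pullCl_bijective [Finite n] [IsNoetherian S] (u : S ⟶ (U : Scheme.{u}))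
    (hu : u ≫ U.ι ≫ (𝔸(n; S) ↘ S) = 𝟙 S) {Y : Scheme.{u}} (g : Y ⟶ S) [IsNoetherian Y]
    (hY : Pi1.IsNormalScheme Y) :
    ∀ c' : PicF.Cl (pullback g (U.ι ≫ (𝔸(n; S) ↘ S))), PicF.IsInvertibleCl c' →
      ∃! c : PicF.Cl Y, PicF.IsInvertibleCl c ∧ PicF.pullCl (pullback.fst g (U.ι ≫ (𝔸(n; S) ↘ S))) c = c' := by
  rintro c' ⟨L, rfl, hL⟩
  let p := pullback.fst g (U.ι ≫ (𝔸(n; S) ↘ S))
  let σ : Y ⟶ pullback g (U.ι ≫ (𝔸(n; S) ↘ S)) := pullback.lift (𝟙 Y) (g ≫ u)
    (by rw [Category.assoc, hu, Category.id_comp, Category.comp_id])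
  have hσ : σ ≫ p = 𝟙 Y := pullback.lift_fst _ _ _
  haveI := flat_affineSpace n S
  haveI hflat : Flat p := MorphismProperty.of_isPullback (P := @Flat)
    (IsPullback.of_hasPullback g (U.ι ≫ (𝔸(n; S) ↘ S))).flip inferInstance
  haveI hsurj : Surjective p := ⟨fun y => ⟨σ y, by
    rw [← Scheme.Hom.comp_apply, hσ]
    rfl⟩⟩
  haveI : IsLocallyNoetherian 𝔸(n; S) := LocallyOfFiniteType.isLocallyNoetherian (𝔸(n; S) ↘ S)
  haveI hqc : QuasiCompact p := MorphismProperty.of_isPullback (P := @QuasiCompact)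
    (IsPullback.of_hasPullback g (U.ι ≫ (𝔸(n; S) ↘ S))).flip inferInstance
  haveI : LocallyOfFiniteType p := MorphismProperty.of_isPullback (P := @LocallyOfFiniteType)
    (IsPullback.of_hasPullback g (U.ι ≫ (𝔸(n; S) ↘ S))).flip inferInstance
  haveI : IsLocallyNoetherian (pullback g (U.ι ≫ (𝔸(n; S) ↘ S))) := LocallyOfFiniteType.isLocallyNoetherian p
  obtain ⟨M, hM, ⟨e⟩⟩ := exists_invertible (f := p) (Or.inl inferInstance) hY
    (fun y _ => by
      obtain ⟨j, hj⟩ := exists_fibre_openImmersion (U := U) g y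
      obtain ⟨x, hx⟩ := p.surjective y
      haveI : Nonempty (p.fiber y) := ⟨(p.fiberHomeo y).symm ⟨x, hx⟩⟩
      haveI := hj
      exact isIntegral_of_isOpenImmersion j) hL
    (fun η _ => Nonempty.some (by
      obtain ⟨j, hj⟩ := exists_fibre_openImmersion (U := U) g η
      haveI := hj
      exact nonempty_trivial_of_openImmersion j (PicLoc.isInvertible_pullback (p.fiberι η) hL)))
  refine ⟨PicF.cl M, ⟨⟨M, rfl, hM⟩, Quot.sound ⟨e⟩⟩, ?_⟩
  rintro c ⟨-, hc⟩
  calc c = PicF.pullCl σ (PicF.pullCl p c) := by rw [← PicRelBC.pullCl_comp, hσ, PicRelBC.pullCl_id]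
    _ = PicF.pullCl σ (PicF.pullCl p (PicF.cl M)) := by
      rw [hc, show PicF.pullCl p (PicF.cl M) = PicF.cl L from Quot.sound ⟨e⟩]
    _ = PicF.cl M := by rw [← PicRelBC.pullCl_comp, hσ, PicRelBC.pullCl_id]

end Groth.Agent.DivDescMod
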