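import Groth.Agent.DivDescMod.Descend
import Mathlib

/-!
The descended invertible module.
-/

set_option autoImplicit false
set_option linter.style.haveILetI false
set_option backward.isDefEq.respectTransparency false

universe u

open CategoryTheory CategoryTheory.Limits AlgebraicGeometry TopologicalSpace Opposite
open Groth.Agent.QC (res resO res_res res_smul resO_resO app_res res_self resO_self)
open TMul (IsGen)

noncomputable section

namespace Groth.Agent.DivDescMod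

variable {X Y : Scheme.{u}} {f : X ⟶ Y} {L : X.Modules}

theorem eq_of_le_both {F : Scheme.{u}} {A B : F.Opens} (h : A ≤ B) (h' : B ≤ A) {x y : Γ(F, B)}
    (he : resO F h x = resO F h y) : x = y := by
  have := congrArg (resO F h') he
  rwa [resO_resO, resO_resO, resO_self, resO_self] at this

/-- All preimages in the fibre of neighbourhoods of the point coincide. -/
theorem preimage_le (η : Y) {D : Y.Opens} (hD : η ∈ D) (O : (f.fiber η).Opens) :
    O ≤ f.fiberι η ⁻¹ᵁ (f ⁻¹ᵁ D) := fun w _ => by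
  show f (f.fiberι η w) ∈ D
  rw [show f (f.fiberι η w) = η from (f.range_fiberι η).subset ⟨w, rfl⟩]
  exact hD

variable (Φ : ∀ η : Y, GoingDown.IsMaximalPt η →
  ((Scheme.Modules.pullback (f.fiberι η)).obj L ≅ Coh.structureModule (f.fiber η)))

/-- The sections of the direct image which are rational on each generic fibre. -/
def Cond (V : Y.Opens) (t : Γ(L, f ⁻¹ᵁ V)) : Prop :=
  ∀ (η : Y) (hη : GoingDown.IsMaximalPt η), η ∈ V → ∃ (D : Y.Opens) (hD : D ≤ V) (_ : η ∈ D) (a : Γ(Y, D)),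
    rho f (Φ η hη) (f ⁻¹ᵁ D) (res L (f.preimage_mono hD) t) = cst f D (f ⁻¹ᵁ D) le_rfl a

theorem Cond.shrink {η : Y} {hη : GoingDown.IsMaximalPt η} {V D D' : Y.Opens} (hD : D ≤ V) (h : D' ≤ D)
    {t : Γ(L, f ⁻¹ᵁ V)} {a : Γ(Y, D)}
    (ha : rho f (Φ η hη) (f ⁻¹ᵁ D) (res L (f.preimage_mono hD) t) = cst f D (f ⁻¹ᵁ D) le_rfl a) :
    rho f (Φ η hη) (f ⁻¹ᵁ D') (res L (f.preimage_mono (h.trans hD)) t) =
      cst f D' (f ⁻¹ᵁ D') le_rfl (resO Y h a) := by
  have := congrArg (resO (f.fiber η) ((f.fiberι η).preimage_mono (f.preimage_mono h))) ha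
  rw [← rho_res f (Φ η hη) (f.preimage_mono h), cst_res f le_rfl (f.preimage_mono h), res_res] at this
  rw [this, cst_base]

/-- The subsheaf of rational sections. -/
def ratSub : Groth.Agent.QC.Sub ((Scheme.Modules.pushforward f).obj L) where
  obj V :=
    { carrier := {t | Cond Φ V (t : Γ(L, f ⁻¹ᵁ V))}
      add_mem' := by
        intro s t hs ht η hη hV
        obtain ⟨D, hD, hηD, a, ha⟩ := hs η hη hV
        obtain ⟨D', hD', hηD', a', ha'⟩ := ht η hη hV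
        refine ⟨D ⊓ D', inf_le_left.trans hD, ⟨hηD, hηD'⟩, resO Y inf_le_left a + resO Y inf_le_right a', ?_⟩
        have e1 := Cond.shrink Φ hD (inf_le_left : D ⊓ D' ≤ D) ha
        have e2 := Cond.shrink Φ hD' (inf_le_right : D ⊓ D' ≤ D') ha'
        rw [map_add (cst f (η := η) (D ⊓ D') _ le_rfl), ← e1, ← e2, ← map_add, ← map_add]
      zero_mem' := by
        intro η hη hV
        refine ⟨V, le_rfl, hV, 0, ?_⟩
        rw [map_zero (cst f (η := η) V _ le_rfl)]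
        refine (congrArg (rho f (Φ η hη) _) (map_zero (res L _))).trans ?_
        exact map_zero _
      smul_mem' := by
        intro c t ht η hη hV
        obtain ⟨D, hD, hηD, a, ha⟩ := ht η hη hV
        refine ⟨D, hD, hηD, resO Y hD c * a, ?_⟩
        show rho f (Φ η hη) (f ⁻¹ᵁ D) (res L (f.preimage_mono hD) (f.app V c • (show Γ(L, f ⁻¹ᵁ V) from t))) = _
        have hc : resO X (f.preimage_mono hD) (f.app V c) = f.appLE D (f ⁻¹ᵁ D) le_rfl (resO Y hD c) := by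
          rw [appLE_resO]
          rfl
        rw [res_smul, hc, rho_appLE_smul, ha, map_mul] }
  res_mem := by
    intro O' O h s hs η hη hV
    obtain ⟨D, hD, hηD, a, ha⟩ := hs η hη (h hV)
    refine ⟨D ⊓ O', inf_le_right, ⟨hηD, hV⟩, resO Y inf_le_left a, ?_⟩
    refine Eq.trans ?_ (Cond.shrink Φ hD (inf_le_left : D ⊓ O' ≤ D) ha)
    exact congrArg _ (res_res L (f.preimage_mono inf_le_right) (f.preimage_mono h) s)
  local' := by
    intro O s hs η hη hV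
    obtain ⟨W, hW, hηW, hsW⟩ := hs η hV
    obtain ⟨D, hD, hηD, a, ha⟩ := hsW η hη hηW
    refine ⟨D, hD.trans hW, hηD, a, Eq.trans ?_ ha⟩
    exact congrArg _ (res_res L (f.preimage_mono hD) (f.preimage_mono hW) s).symm

variable {Φ}

theorem mem_ratSub {V : Y.Opens} {t : Γ(L, f ⁻¹ᵁ V)} :
    (t : Γ((Scheme.Modules.pushforward f).obj L, V)) ∈ (ratSub Φ).obj V ↔ Cond Φ V t := Iff.rfl

theorem mem_of_rat {U : Y.affineOpens} [IsDomain Γ(Y, U.1)] {η : Y} (hU : η ∈ U.1)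
    (hη : IsField (Y.presheaf.stalk η)) (hm : GoingDown.IsMaximalPt η) {E : Γ(L, f ⁻¹ᵁ U.1)} {α β : Γ(Y, U.1)}
    (hβ : β ≠ 0) (h : Rat f (Φ η hm) U.1 (f ⁻¹ᵁ U.1) le_rfl E α β) : Cond Φ U.1 E := by
  intro η' hη' hη'U
  obtain rfl : η = η' := hη' _ (specializes_of_generic hη hU hη'U)
  have hu : IsUnit (resO Y (Y.basicOpen_le β) β) := RingedSpace.isUnit_res_basicOpen _ β
  refine ⟨Y.basicOpen β, Y.basicOpen_le β, mem_basicOpen_of_ne_zero hη hU hβ,
    resO Y (Y.basicOpen_le β) α * ((hu.unit⁻¹ : _ˣ) : Γ(Y, Y.basicOpen β)), ?_⟩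
  have h' := (h.res (f.preimage_mono (Y.basicOpen_le β))).base (Y.basicOpen_le β) le_rfl
  have hb : IsUnit (cst f (η := η) (Y.basicOpen β) (f ⁻¹ᵁ Y.basicOpen β) le_rfl (resO Y (Y.basicOpen_le β) β)) :=
    IsUnit.map _ hu
  refine hb.mul_left_cancel ?_
  rw [← map_mul, mul_left_comm, IsUnit.mul_val_inv, mul_one]
  exact h'

variable [Flat f] [IsLocallyNoetherian X] [IsLocallyNoetherian Y] [Surjective f]

/-- A section of the subsheaf is a multiple of a rational generator. -/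
theorem exists_eq_smul (hY : Pi1.IsNormalScheme Y) {U : Y.affineOpens} [IsDomain Γ(Y, U.1)] {η : Y}
    (hU : η ∈ U.1) (hη : IsField (Y.presheaf.stalk η)) (hm : GoingDown.IsMaximalPt η)
    {E : Γ(L, f ⁻¹ᵁ U.1)} {α β : Γ(Y, U.1)} (hα : α ≠ 0) (hE : IsGen E)
    (h : Rat f (Φ η hm) U.1 (f ⁻¹ᵁ U.1) le_rfl E α β) {V : Y.Opens} (hV : V ≤ U.1) {t : Γ(L, f ⁻¹ᵁ V)}
    (ht : Cond Φ V t) : ∃ γ : Γ(Y, V), t = f.app V γ • res L (f.preimage_mono hV) E := by
  obtain ⟨u, hu⟩ := (hE (f ⁻¹ᵁ V) (f.preimage_mono hV)).2 t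
  simp only at hu
  have hloc : ∀ y : V, ∃ (D₀ : Y.Opens) (hD₀ : D₀ ≤ V) (γ : Γ(Y, D₀)), y.1 ∈ D₀ ∧
      f.appLE D₀ (f ⁻¹ᵁ D₀) le_rfl γ = resO X (f.preimage_mono hD₀) u := by
    intro y
    obtain ⟨D₀, hD₀, hyD₀, hD₀le⟩ := exists_isAffineOpen_mem_and_subset y.2
    have hDU : D₀ ≤ U.1 := (show D₀ ≤ V from hD₀le).trans hV
    haveI : IsDomain Γ(Y, D₀) := isDomain_sub (U := U) (D := ⟨D₀, hD₀⟩) hDU hyD₀
    have hηD₀ : η ∈ D₀ := (specializes_of_generic hη hU (hDU hyD₀)).mem_open D₀.2 hyD₀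
    obtain ⟨D, hD, hηD, a, ha⟩ := ht η hm (hD₀le hηD₀)
    obtain ⟨h₀, hh₀, hh₀η⟩ := hD₀.exists_basicOpen_le (V := D) ⟨η, hηD⟩ hηD₀
    haveI := hD₀.isLocalization_basicOpen h₀
    obtain ⟨⟨a₁, _, n, rfl⟩, han⟩ := IsLocalization.surj (Submonoid.powers h₀) (resO Y hh₀ a)
    have han' : resO Y hh₀ a * resO Y (Y.basicOpen_le h₀) (h₀ ^ n) = resO Y (Y.basicOpen_le h₀) a₁ := han
    have hh₀ne : h₀ ≠ 0 := fun h0 => by
      rw [h0, Scheme.basicOpen_zero] at hh₀η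
      exact hh₀η
    have hrat : Rat f (Φ η hm) D₀ (f ⁻¹ᵁ D₀) le_rfl (res L (f.preimage_mono hD₀le) t) a₁ (h₀ ^ n) := by
      have hb : f ⁻¹ᵁ Y.basicOpen h₀ ≤ f ⁻¹ᵁ D₀ := f.preimage_mono (Y.basicOpen_le h₀)
      refine eq_of_le_both ((f.fiberι η).preimage_mono hb) (preimage_le η hh₀η _) ?_
      rw [map_mul, cst_res f le_rfl hb, cst_res f le_rfl hb, ← rho_res f (Φ η hm) hb, res_res,
        Cond.shrink Φ hD hh₀ ha, ← cst_base f (Y.basicOpen_le h₀) le_rfl, ← cst_base f (Y.basicOpen_le h₀) le_rfl,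
        ← map_mul, mul_comm, han']
    have hrE : Rat f (Φ η hm) D₀ (f ⁻¹ᵁ D₀) le_rfl (res L (f.preimage_mono hDU) E) (resO Y hDU α) (resO Y hDU β) :=
      (h.res (f.preimage_mono hDU)).base hDU le_rfl
    have hs : ∀ z ∈ D₀, ∃ x ∈ f ⁻¹ᵁ D₀, f x = z := fun z hz => by
      obtain ⟨x, rfl⟩ := f.surjective z
      exact ⟨x, hz, rfl⟩
    have hu' : res L (f.preimage_mono hD₀le) t =
        resO X (f.preimage_mono hD₀le) u • res L (f.preimage_mono hDU) E := by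
      rw [← hu, res_smul, res_res]
    obtain ⟨γ, hγ⟩ := exists_ratio (U := ⟨D₀, hD₀⟩) hη hηD₀ le_rfl hs hu'
      (resO_ne_zero U.2 hDU hη hηD₀ hα) (pow_ne_zero n hh₀ne) hrE hrat
    exact ⟨D₀, hD₀le, γ, hyD₀, hγ.symm⟩
  choose D hD γ hyD hγ using hloc
  have hinj : ∀ {W : Y.Opens} (c c' : Γ(Y, W)), f.appLE W (f ⁻¹ᵁ W) le_rfl c = f.appLE W (f ⁻¹ᵁ W) le_rfl c' →
      c = c' := fun {W} c c' hc => by
    refine sub_eq_zero.1 (eq_zero_of_appLE (f := f) (O := f ⁻¹ᵁ W) le_rfl (fun z hz => ?_) _ ?_)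
    · obtain ⟨x, rfl⟩ := f.surjective z
      exact ⟨x, hz, rfl⟩
    · rw [map_sub, hc, sub_self]
  obtain ⟨G, hG, -⟩ := TopCat.Sheaf.existsUnique_gluing' Y.sheaf D V (fun y => homOfLE (hD y))
    (fun y hy => Opens.mem_iSup.mpr ⟨⟨y, hy⟩, hyD _⟩) γ (fun i j => by
      show resO Y inf_le_left (γ i) = resO Y inf_le_right (γ j)
      refine hinj _ _ ?_
      rw [appLE_resO, appLE_resO, ← resO_appLE f le_rfl (f.preimage_mono inf_le_left), hγ,
        ← resO_appLE f le_rfl (f.preimage_mono inf_le_right), hγ, resO_resO, resO_resO])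
  refine ⟨G, hu.symm.trans (congrArg (· • _) ?_)⟩
  refine TopCat.Presheaf.IsSheaf.section_ext X.sheaf.2 fun x hx => ?_
  refine ⟨f ⁻¹ᵁ D ⟨f x, hx⟩, f.preimage_mono (hD _), hyD _, ?_⟩
  show resO X _ u = resO X _ (f.app V G)
  rw [← hγ, ← show resO Y (hD ⟨f x, hx⟩) G = γ ⟨f x, hx⟩ from hG _, appLE_resO]
  rfl

/-- An invertible module trivial on the generic fibres is the pullback of an invertible module. -/
theorem exists_invertible (hf : QuasiCompact f ∨ IsOpenMap f) (hY : Pi1.IsNormalScheme Y)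
    (hfib : ∀ y : Y, ringKrullDim (Y.presheaf.stalk y) = 1 → IsIntegral (f.fiber y))
    (hL : PicF.IsInvertible L) (Φ : ∀ η : Y, GoingDown.IsMaximalPt η →
      ((Scheme.Modules.pullback (f.fiberι η)).obj L ≅ Coh.structureModule (f.fiber η))) :
    ∃ M : Y.Modules, PicF.IsInvertible M ∧ Nonempty ((Scheme.Modules.pullback f).obj M ≅ L) := by
  let S := ratSub Φ
  have hgen : ∀ y : Y, ∃ (U : Y.affineOpens) (_ : y ∈ U.1) (E : Γ(L, f ⁻¹ᵁ U.1)) (hE : Cond Φ U.1 E),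
      IsGen E ∧ IsGen (X := Y) (N := S.toModules) (U := U.1) ⟨E, hE⟩ := by
    intro y
    obtain ⟨U, hU, hyU, hdom⟩ := exists_domain_nhd (hY y).1
    haveI := hdom
    obtain ⟨η, hηU, hη, hm⟩ := exists_generic (⟨U, hU⟩ : Y.affineOpens)
    obtain ⟨U', hU'U, hyU', hηU', hdom', E, α, β, hα, hβ, hE, hrat⟩ :=
      exists_gen (U := ⟨U, hU⟩) hf hY hfib hL hηU hη (Φ η hm) hyU
    haveI := hdom'
    have hEc : Cond Φ U'.1 E := mem_of_rat hηU' hη hm hβ hrat
    refine ⟨U', hyU', E, hEc, hE, fun V hV => ?_⟩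
    have hval : ∀ c : Γ(Y, V), S.ι.app V (c • res S.toModules hV ⟨E, hEc⟩) =
        (f.app V c • res L (f.preimage_mono hV) E : Γ(L, f ⁻¹ᵁ V)) := fun c => by
      rw [Scheme.Modules.Hom.app_smul, ← app_res]
      rfl
    refine ⟨fun c c' hcc => ?_, fun m => ?_⟩
    · have h1 := congrArg (S.ι.app V) hcc
      simp only at h1
      rw [hval, hval] at h1
      have h2 := (hE (f ⁻¹ᵁ V) (f.preimage_mono hV)).1 h1
      refine sub_eq_zero.1 (eq_zero_of_appLE (f := f) (O := f ⁻¹ᵁ V) le_rfl (fun z hz => ?_) _ ?_)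
      · obtain ⟨x, rfl⟩ := f.surjective z
        exact ⟨x, hz, rfl⟩
      · rw [map_sub, sub_eq_zero, ← Scheme.Hom.app_eq_appLE]
        exact h2
    · obtain ⟨γ, hγ⟩ := exists_eq_smul hY hηU' hη hm hα hE hrat hV
        (mem_ratSub.1 ((S.range_ι_app V _).1 ⟨m, rfl⟩))
      exact ⟨γ, S.ι_app_injective V ((hval γ).trans hγ.symm)⟩
  have hM : PicF.IsInvertible S.toModules := InvGen.isInvertible fun y => by
    obtain ⟨U, hyU, E, hEc, -, hg⟩ := hgen y
    exact ⟨U.1, _, hyU, hg⟩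
  let adj := Scheme.Modules.pullbackPushforwardAdjunction f
  let ψ : (Scheme.Modules.pullback f).obj S.toModules ⟶ L := (adj.homEquiv _ _).symm S.ι
  have hψ : adj.unit.app S.toModules ≫ (Scheme.Modules.pushforward f).map ψ = S.ι :=
    (adj.homEquiv_unit (f := ψ)).symm.trans (Equiv.apply_symm_apply _ _)
  haveI : IsIso ψ := InvExt.isIso_of_hits_gen (PicLoc.isInvertible_pullback f hM) ψ fun x => by
    obtain ⟨U, hyU, E, hEc, hE, -⟩ := hgen (f x)
    refine ⟨f ⁻¹ᵁ U.1, ProjMor.eta f S.toModules U.1 ⟨E, hEc⟩, hyU, ?_⟩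
    have h := congrArg (fun q => q.app U.1 ⟨E, hEc⟩) hψ
    have h' : ψ.app (f ⁻¹ᵁ U.1) (ProjMor.eta f S.toModules U.1 ⟨E, hEc⟩) = E := h
    rw [h']
    exact hE
  exact ⟨S.toModules, hM, ⟨asIso ψ⟩⟩

end Groth.Agent.DivDescMod
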