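import Groth.Agent.DivDescMod.Local
import Groth.Agent.GoingDown.Dedekind
import Groth.Agent.InvExt.Push
import Groth.Agent.QC.SubSheaf
import Mathlib

/-!
Invertible modules trivial on generic fibres descend to a normal base.
-/

set_option autoImplicit false
set_option linter.style.haveILetI false
set_option backward.isDefEq.respectTransparency false

universe u

open CategoryTheory CategoryTheory.Limits AlgebraicGeometry TopologicalSpace Opposite
open Groth.Agent.QC (res resO res_res res_smul resO_resO app_res res_self resO_self)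
open TMul (IsGen)

noncomputable section

namespace Groth.Agent.DivDescMod

variable {X Y : Scheme.{u}} {f : X ⟶ Y}

/-- A point with reduced Noetherian surroundings and local ring a domain has a neighbourhood with integral
ring of functions. -/
lemma exists_domain_nhd [IsLocallyNoetherian X] {y : X} (hy : IsDomain (X.presheaf.stalk y)) :
    ∃ W : X.Opens, IsAffineOpen W ∧ y ∈ W ∧ IsDomain Γ(X, W) := by
  classical
  obtain ⟨W, hW, hyW, -⟩ := exists_isAffineOpen_mem_and_subset (x := y) (U := ⊤) trivial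
  haveI : IsNoetherianRing Γ(X, W) := IsLocallyNoetherian.component_noetherian ⟨W, hW⟩
  letI := (X.presheaf.germ W y hyW).hom.toAlgebra
  haveI := hW.isLocalization_stalk ⟨y, hyW⟩
  let p := (hW.primeIdealOf ⟨y, hyW⟩).asIdeal
  let O := X.presheaf.stalk y
  obtain ⟨T, hT⟩ := (IsNoetherian.noetherian (RingHom.ker (algebraMap Γ(X, W) O)) :
    (RingHom.ker (algebraMap Γ(X, W) O)).FG)
  have hk : ∀ t ∈ T, ∃ s : Γ(X, W), s ∉ p ∧ s * t = 0 := fun t ht => by
    have h0 : algebraMap Γ(X, W) O t = 0 :=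
      RingHom.mem_ker.mp (hT ▸ Ideal.subset_span (Finset.mem_coe.mpr ht))
    obtain ⟨m, hm⟩ := (IsLocalization.map_eq_zero_iff p.primeCompl O t).mp h0
    exact ⟨m.1, m.2, hm⟩
  choose! s hs hst using hk
  let σ : Γ(X, W) := ∏ t ∈ T, s t
  have hσ : σ ∈ p.primeCompl := prod_mem fun t ht => hs t ht
  have hyσ : y ∈ X.basicOpen σ := (X.mem_basicOpen σ y hyW).mpr (IsLocalization.map_units (M := p.primeCompl) O ⟨σ, hσ⟩)
  refine ⟨X.basicOpen σ, hW.basicOpen σ, hyσ, ?_⟩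
  letI := (resO X (X.basicOpen_le σ)).toAlgebra
  haveI : IsLocalization (Submonoid.powers σ) Γ(X, X.basicOpen σ) := hW.isLocalization_basicOpen σ
  refine Function.Injective.isDomain (X.presheaf.germ (X.basicOpen σ) y hyσ).hom ?_
  rw [injective_iff_map_eq_zero]
  intro c hc
  obtain ⟨⟨a, m⟩, ha⟩ := IsLocalization.surj (Submonoid.powers σ) c
  have h0 : algebraMap Γ(X, W) O a = 0 := by
    have := congrArg (X.presheaf.germ (X.basicOpen σ) y hyσ).hom ha
    rw [map_mul, hc, zero_mul] at this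
    refine Eq.trans ?_ this.symm
    exact (X.presheaf.germ_res_apply (homOfLE (X.basicOpen_le σ)) y hyσ a).symm
  have hmem : a ∈ Submodule.span Γ(X, W) (T : Set Γ(X, W)) := by rw [hT]; exact RingHom.mem_ker.mpr h0
  have hzero : σ * a = 0 := by
    clear ha h0
    induction hmem using Submodule.span_induction with
    | mem t ht =>
      obtain ⟨d, hd⟩ := Finset.dvd_prod_of_mem s (Finset.mem_coe.mp ht)
      rw [show σ = s t * d from hd, mul_right_comm, hst t ht, zero_mul]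
    | zero => rw [mul_zero]
    | add x y _ _ hx hy => rw [mul_add, hx, hy, add_zero]
    | smul r x _ hx => rw [smul_eq_mul, mul_left_comm, hx, mul_zero]
  have hu : IsUnit (algebraMap Γ(X, W) Γ(X, X.basicOpen σ) σ) :=
    IsLocalization.map_units (M := Submonoid.powers σ) _ ⟨σ, 1, pow_one σ⟩
  have h1 : algebraMap Γ(X, W) Γ(X, X.basicOpen σ) a = 0 := by
    have := congrArg (algebraMap Γ(X, W) Γ(X, X.basicOpen σ)) hzero
    rw [map_mul, map_zero] at this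
    exact hu.mul_right_eq_zero.mp this
  rw [h1] at ha
  exact (IsLocalization.map_units (M := Submonoid.powers σ) Γ(X, X.basicOpen σ) m).mul_left_eq_zero.mp ha


section Base

variable [Flat f] {U : Y.Opens} {O : X.Opens} (e : O ≤ f ⁻¹ᵁ U) (hs : ∀ y ∈ U, ∃ x ∈ O, f x = y)
include hs

theorem eq_zero_of_appLE (a : Γ(Y, U)) (h : f.appLE U O e a = 0) : a = 0 := by
  refine TopCat.Presheaf.section_ext Y.sheaf U _ _ fun y hy => ?_
  obtain ⟨x, hxO, rfl⟩ := hs y hy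
  show Y.presheaf.germ U (f x) hy a = Y.presheaf.germ U (f x) hy 0
  rw [map_zero]
  algebraize [(f.stalkMap x).hom]
  haveI : Module.Flat (Y.presheaf.stalk (f x)) (X.presheaf.stalk x) := Flat.stalkMap _ x
  haveI : IsLocalHom (algebraMap (Y.presheaf.stalk (f x)) (X.presheaf.stalk x)) :=
    inferInstanceAs (IsLocalHom (f.stalkMap x).hom)
  haveI := Module.FaithfullyFlat.of_flat_of_isLocalHom (A := Y.presheaf.stalk (f x))
    (B := X.presheaf.stalk x)
  apply FaithfulSMul.algebraMap_injective (Y.presheaf.stalk (f x)) (X.presheaf.stalk x)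
  rw [map_zero]
  show (f.stalkMap x).hom (Y.presheaf.germ U (f x) hy a) = 0
  rw [Scheme.Hom.germ_stalkMap_apply, ← TopCat.Presheaf.germ_res_apply X.presheaf (homOfLE e) x hxO]
  show X.presheaf.germ O x hxO (f.appLE U O e a) = 0
  rw [h, map_zero]

omit [Flat f] in
theorem isUnit_of_appLE (a : Γ(Y, U)) (h : IsUnit (f.appLE U O e a)) : IsUnit a := by
  refine RingedSpace.isUnit_of_isUnit_germ _ _ _ fun y hy => ?_
  obtain ⟨x, hxO, rfl⟩ := hs y hy
  refine (isUnit_map_iff (f.stalkMap x).hom _).1 ?_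
  show IsUnit ((f.stalkMap x).hom (Y.presheaf.germ U (f x) hy a))
  rw [Scheme.Hom.germ_stalkMap_apply, ← TopCat.Presheaf.germ_res_apply X.presheaf (homOfLE e) x hxO]
  exact h.map (X.presheaf.germ O x hxO).hom

theorem dvd_of_appLE (hU : IsAffineOpen U) {a b : Γ(Y, U)} (h : f.appLE U O e b ∣ f.appLE U O e a) : b ∣ a := by
  let I : Ideal Γ(Y, U) := LinearMap.ker ((Ideal.span {b}).mkQ.comp (LinearMap.toSpanSingleton Γ(Y, U) Γ(Y, U) a))
  have hI : ∀ c, c ∈ I ↔ c * a ∈ Ideal.span {b} := fun c => by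
    simp [I, ← map_mul, Ideal.Quotient.eq_zero_iff_mem]
  have hne : ∀ p : Ideal Γ(Y, U), p.IsPrime → ¬ I ≤ p := by
    intro p hp hle
    let P : PrimeSpectrum Γ(Y, U) := ⟨p, hp⟩
    have hyU : hU.fromSpec P ∈ U := hU.range_fromSpec.le ⟨_, rfl⟩
    obtain ⟨x, hxO, hfx⟩ := hs _ hyU
    have hfxU : f x ∈ U := e hxO
    algebraize [(f.stalkMap x).hom]
    haveI : Module.Flat (Y.presheaf.stalk (f x)) (X.presheaf.stalk x) := Flat.stalkMap _ x
    haveI : IsLocalHom (algebraMap (Y.presheaf.stalk (f x)) (X.presheaf.stalk x)) :=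
      inferInstanceAs (IsLocalHom (f.stalkMap x).hom)
    haveI := Module.FaithfullyFlat.of_flat_of_isLocalHom (A := Y.presheaf.stalk (f x))
      (B := X.presheaf.stalk x)
    have h1 : Y.presheaf.germ U (f x) hfxU a ∈ Ideal.span {Y.presheaf.germ U (f x) hfxU b} := by
      rw [← Ideal.comap_map_eq_self_of_faithfullyFlat (B := X.presheaf.stalk x) (Ideal.span _),
        Ideal.mem_comap, Ideal.map_span, Set.image_singleton, Ideal.mem_span_singleton]
      show (f.stalkMap x).hom (Y.presheaf.germ U (f x) hfxU b) ∣ (f.stalkMap x).hom (Y.presheaf.germ U (f x) hfxU a)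
      rw [Scheme.Hom.germ_stalkMap_apply, Scheme.Hom.germ_stalkMap_apply,
        ← TopCat.Presheaf.germ_res_apply X.presheaf (homOfLE e) x hxO,
        ← TopCat.Presheaf.germ_res_apply X.presheaf (homOfLE e) x hxO]
      exact map_dvd (X.presheaf.germ O x hxO).hom h
    letI := (Y.presheaf.germ U (f x) hfxU).hom.toAlgebra
    haveI := hU.isLocalization_stalk ⟨f x, hfxU⟩
    have h2 : algebraMap Γ(Y, U) (Y.presheaf.stalk (f x)) a ∈
        (Ideal.span {b}).map (algebraMap Γ(Y, U) (Y.presheaf.stalk (f x))) := by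
      rw [Ideal.map_span, Set.image_singleton]
      exact h1
    obtain ⟨s, hs', hsa⟩ := (IsLocalization.algebraMap_mem_map_algebraMap_iff
      (hU.primeIdealOf ⟨f x, hfxU⟩).asIdeal.primeCompl (Y.presheaf.stalk (f x)) _ a).1 h2
    apply hs'
    have hp' : (hU.primeIdealOf ⟨f x, hfxU⟩).asIdeal = p := congrArg PrimeSpectrum.asIdeal
      (hU.fromSpec.isOpenEmbedding.injective ((hU.fromSpec_primeIdealOf ⟨f x, hfxU⟩).trans hfx) :
        hU.primeIdealOf ⟨f x, hfxU⟩ = P)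
    exact hp'.symm.le (hle ((hI s).2 hsa))
  have htop : I = ⊤ := by
    by_contra hI'
    obtain ⟨p, hp, hle⟩ := Ideal.exists_le_maximal I hI'
    exact hne p hp.isPrime hle
  have h1 := (hI 1).1 (htop ▸ Submodule.mem_top)
  rwa [one_mul, Ideal.mem_span_singleton] at h1

end Base

variable {η : Y} {L : X.Modules} {φ : (Scheme.Modules.pullback (f.fiberι η)).obj L ≅ Coh.structureModule (f.fiber η)}

theorem isDomain_sub {U D : Y.affineOpens} [IsDomain Γ(Y, U.1)] (h : D.1 ≤ U.1) {y : Y} (hy : y ∈ D.1) :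
    IsDomain Γ(Y, D.1) := by
  haveI : Nonempty U.1.toScheme := ⟨⟨y, h hy⟩⟩
  haveI : IsAffine U.1.toScheme := U.2
  haveI : IsIntegral U.1.toScheme := isIntegral_of_isOpenImmersion U.2.isoSpec.hom
  haveI : Nonempty (U.1.ι ⁻¹ᵁ D.1).toScheme := ⟨⟨⟨y, h hy⟩, hy⟩⟩
  have h1 : IsDomain Γ(Y, U.1.ι ''ᵁ (U.1.ι ⁻¹ᵁ D.1)) :=
    inferInstanceAs (IsDomain Γ(U.1.toScheme, U.1.ι ⁻¹ᵁ D.1))
  have h2 : U.1.ι ''ᵁ (U.1.ι ⁻¹ᵁ D.1) = D.1 := by
    rw [Scheme.Hom.image_preimage_eq_opensRange_inf, Scheme.Opens.opensRange_ι, inf_eq_right.2 h]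
  exact h2 ▸ h1

/-- The generic point of an affine open with integral ring of functions. -/
theorem exists_generic (U : Y.affineOpens) [IsDomain Γ(Y, U.1)] :
    ∃ η : Y, η ∈ U.1 ∧ IsField (Y.presheaf.stalk η) ∧ GoingDown.IsMaximalPt η := by
  let p : PrimeSpectrum Γ(Y, U.1) := ⟨⊥, Ideal.isPrime_bot⟩
  have hU : U.2.fromSpec p ∈ U.1 := U.2.range_fromSpec.le ⟨_, rfl⟩
  letI := (Y.presheaf.germ U.1 (U.2.fromSpec p) hU).hom.toAlgebra
  haveI : IsLocalization.AtPrime (Y.presheaf.stalk (U.2.fromSpec p)) p.asIdeal := U.2.isLocalization_stalk' p hU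
  refine ⟨_, hU, ⟨exists_pair_ne _, mul_comm, fun {z} hz => ?_⟩, fun w hw => ?_⟩
  · obtain ⟨a, s, rfl⟩ := IsLocalization.exists_mk'_eq p.asIdeal.primeCompl z
    have ha : a ∉ p.asIdeal := fun h => hz (by
      rw [show a = 0 from h, IsLocalization.mk'_zero])
    have hu : IsUnit (IsLocalization.mk' (Y.presheaf.stalk (U.2.fromSpec p)) a s) := by
      refine isUnit_of_mul_isUnit_left (y := algebraMap Γ(Y, U.1) (Y.presheaf.stalk (U.2.fromSpec p)) (s : Γ(Y, U.1))) ?_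
      rw [IsLocalization.mk'_spec]
      exact IsLocalization.map_units (Y.presheaf.stalk (U.2.fromSpec p)) (M := p.asIdeal.primeCompl) ⟨a, ha⟩
    exact hu.exists_right_inv
  · obtain ⟨q, rfl⟩ : w ∈ Set.range U.2.fromSpec := U.2.range_fromSpec.symm.subset (hw.mem_open U.1.2 hU)
    refine congrArg _ (PrimeSpectrum.ext ?_)
    exact le_bot_iff.1 ((PrimeSpectrum.le_iff_specializes q p).2
      (U.2.fromSpec.isOpenEmbedding.isInducing.specializes_iff.1 hw))

variable [Flat f]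

/-- The ratio of two rational sections comes from the base. -/
theorem exists_ratio (hη : IsField (Y.presheaf.stalk η)) {U : Y.affineOpens}
    [IsDomain Γ(Y, U.1)] (hU : η ∈ U.1) {O : X.Opens} (e : O ≤ f ⁻¹ᵁ U.1) (hs : ∀ y ∈ U.1, ∃ x ∈ O, f x = y)
    {t₁ t₂ : Γ(L, O)} {u : Γ(X, O)} (hu : t₂ = u • t₁) {a₁ b₁ a₂ b₂ : Γ(Y, U.1)} (ha₁ : a₁ ≠ 0) (hb₂ : b₂ ≠ 0)
    (h₁ : Rat f φ U.1 O e t₁ a₁ b₁) (h₂ : Rat f φ U.1 O e t₂ a₂ b₂) :
    ∃ γ, u = f.appLE U.1 O e γ := by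
  subst hu
  have h0 : ∀ z, (f.fiberι η).app O z = 0 → z = 0 := eq_zero_of_fibre f hη hU e
  have key : f.appLE U.1 O e (b₂ * a₁) * u = f.appLE U.1 O e (a₂ * b₁) := by
    refine sub_eq_zero.1 (h0 _ ?_)
    rw [map_sub, map_mul, sub_eq_zero]
    show cst f U.1 O e (b₂ * a₁) * _ = cst f U.1 O e (a₂ * b₁)
    rw [map_mul, map_mul]
    have e₁ : cst f U.1 O e b₁ * rho f φ O t₁ = cst f U.1 O e a₁ := h₁
    have e₂ : cst f U.1 O e b₂ * rho f φ O (u • t₁) = cst f U.1 O e a₂ := h₂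
    rw [rho_smul] at e₂
    linear_combination (cst f U.1 O e b₁) * e₂ - (cst f U.1 O e b₂ * (f.fiberι η).app O u) * e₁
  obtain ⟨γ, hγ⟩ := dvd_of_appLE e hs U.2 (a := a₂ * b₁) (b := b₂ * a₁) ⟨u, key.symm⟩
  refine ⟨γ, sub_eq_zero.1 (h0 _ ((isUnit_fibre f hη hU e (mul_ne_zero hb₂ ha₁)).mul_right_eq_zero.1 ?_))⟩
  rw [← map_mul, mul_sub, key, hγ, map_mul (f.appLE U.1 O e).hom, sub_self, map_zero]

variable [IsLocallyNoetherian X] [IsLocallyNoetherian Y]

/-- Finitely many charts covering an affine open of the base. -/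
theorem exists_charts [Surjective f] (hf : QuasiCompact f ∨ IsOpenMap f) (hL : PicF.IsInvertible L)
    (U : Y.affineOpens) :
    ∃ (κ : Type u) (_ : Fintype κ) (W : κ → X.affineOpens) (g : ∀ k, Γ(L, (W k).1)),
      (∀ k, (W k).1 ≤ f ⁻¹ᵁ U.1) ∧ (∀ k, IsGen (g k)) ∧ ∀ y ∈ U.1, ∃ k, ∃ x ∈ (W k).1, f x = y := by
  classical
  have h : ∀ x : (f ⁻¹ᵁ U.1 : X.Opens), ∃ (W : X.affineOpens) (g : Γ(L, W.1)), x.1 ∈ W.1 ∧ W.1 ≤ f ⁻¹ᵁ U.1 ∧ IsGen g := by
    intro x
    obtain ⟨A, g, hxA, hg⟩ := TMul.exists_isGen hL x.1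
    obtain ⟨W, hW, hxW, hWle⟩ := exists_isAffineOpen_mem_and_subset (show x.1 ∈ A ⊓ f ⁻¹ᵁ U.1 from ⟨hxA, x.2⟩)
    exact ⟨⟨W, hW⟩, res L (hWle.trans inf_le_left) g, hxW, hWle.trans inf_le_right, hg.res _⟩
  choose W g hxW hWle hg using h
  rcases hf with hf | hf
  · obtain ⟨t, ht⟩ := (f.isCompact_preimage U.2.isCompact).elim_finite_subcover (fun x => ((W x).1 : Set X))
      (fun x => (W x).1.2) fun x hx => Set.mem_iUnion.2 ⟨⟨x, hx⟩, hxW _⟩
    refine ⟨{x // x ∈ t}, inferInstance, fun k => W k.1, fun k => g k.1, fun k => hWle _,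
      fun k => hg _, fun y hy => ?_⟩
    obtain ⟨x, rfl⟩ := f.surjective y
    obtain ⟨k, hk, hxk⟩ := Set.mem_iUnion₂.1 (ht (show x ∈ ((f ⁻¹ᵁ U.1 : X.Opens) : Set X) from hy))
    exact ⟨⟨k, hk⟩, x, hxk, rfl⟩
  · obtain ⟨t, ht⟩ := U.2.isCompact.elim_finite_subcover (fun x => f '' ((W x).1 : Set X))
      (fun x => hf _ (W x).1.2) fun y hy => by
        obtain ⟨x, rfl⟩ := f.surjective y
        exact Set.mem_iUnion.2 ⟨⟨x, hy⟩, x, hxW _, rfl⟩
    refine ⟨{x // x ∈ t}, inferInstance, fun k => W k.1, fun k => g k.1, fun k => hWle _,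
      fun k => hg _, fun y hy => ?_⟩
    obtain ⟨k, hk, x, hxk, hfx⟩ := Set.mem_iUnion₂.1 (ht hy)
    exact ⟨⟨k, hk⟩, x, hxk, hfx⟩

/-- Near every point of the base a rational generator on the whole preimage. -/
theorem exists_gen [Surjective f] (hf : QuasiCompact f ∨ IsOpenMap f) (hY : Pi1.IsNormalScheme Y)
    (hfib : ∀ y : Y, ringKrullDim (Y.presheaf.stalk y) = 1 → IsIntegral (f.fiber y))
    (hL : PicF.IsInvertible L) {U : Y.affineOpens} [IsDomain Γ(Y, U.1)] (hU : η ∈ U.1)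
    (hη : IsField (Y.presheaf.stalk η))
    (φ : (Scheme.Modules.pullback (f.fiberι η)).obj L ≅ Coh.structureModule (f.fiber η)) {y : Y} (hy : y ∈ U.1) :
    ∃ U' : Y.affineOpens, U'.1 ≤ U.1 ∧ y ∈ U'.1 ∧ η ∈ U'.1 ∧ IsDomain Γ(Y, U'.1) ∧
      ∃ (E : Γ(L, f ⁻¹ᵁ U'.1)) (α β : Γ(Y, U'.1)), α ≠ 0 ∧ β ≠ 0 ∧ IsGen E ∧
        Rat f φ U'.1 (f ⁻¹ᵁ U'.1) le_rfl E α β := by
  classical
  obtain ⟨κ, _, W, g, hW, hg, hcov⟩ := exists_charts hf hL U
  obtain ⟨U', hU'U, hyU', hηU', hdom, e, α, β, hα, hβ, he, hrat⟩ :=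
    exists_gen_local hY hfib hη hL hU φ W hW g hg hcov hy
  haveI := hdom
  have hloc : ∀ x : (f ⁻¹ᵁ U'.1 : X.Opens), ∃ (A : X.Opens) (hA : A ≤ f ⁻¹ᵁ U'.1) (t : Γ(L, A)), x.1 ∈ A ∧
      IsGen t ∧ Rat f φ U'.1 A hA t α β := by
    intro x
    obtain ⟨A₁, g₁, hxA₁, hg₁⟩ := TMul.exists_isGen hL x.1
    obtain ⟨Wx, hWx, hxWx, hWxle⟩ := exists_isAffineOpen_mem_and_subset
      (show x.1 ∈ A₁ ⊓ f ⁻¹ᵁ U'.1 from ⟨hxA₁, x.2⟩)
    let W' : Option κ → X.affineOpens := fun o => o.elim ⟨Wx, hWx⟩ W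
    have hW' : ∀ o, (W' o).1 ≤ f ⁻¹ᵁ U.1 := fun o => by
      cases o with
      | none => exact (hWxle.trans inf_le_right).trans (f.preimage_mono hU'U)
      | some k => exact hW k
    let g' : ∀ o, Γ(L, (W' o).1) := fun o => match o with
      | none => res L (hWxle.trans inf_le_left) g₁
      | some k => g k
    have hg' : ∀ o, IsGen (g' o) := fun o => by
      cases o with
      | none => exact hg₁.res _
      | some k => exact hg k
    obtain ⟨U₂, -, hxU₂, hηU₂, hdom₂, e₂, α₂, β₂, hα₂, hβ₂, he₂, hrat₂⟩ :=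
      exists_gen_local hY hfib hη hL hU φ W' hW' g' hg'
        (fun z hz => (hcov z hz).elim fun k hk => ⟨some k, hk⟩) (hU'U x.2)
    haveI := hdom₂
    obtain ⟨D, hD, hxD, hDle⟩ := exists_isAffineOpen_mem_and_subset
      (show f x.1 ∈ U'.1 ⊓ U₂.1 from ⟨x.2, hxU₂⟩)
    have hD1 : D ≤ U'.1 := hDle.trans inf_le_left
    have hD2 : D ≤ U₂.1 := hDle.trans inf_le_right
    haveI : IsDomain Γ(Y, D) := isDomain_sub (U := U') (D := ⟨D, hD⟩) hD1 hxD
    have hηD : η ∈ D := (specializes_of_generic hη hU (hU'U x.2)).mem_open D.2 hxD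
    let O := (⨆ k, (W k).1) ⊓ f ⁻¹ᵁ D
    let O₂ := (⨆ o, (W' o).1) ⊓ f ⁻¹ᵁ D
    have hOO₂ : O ≤ O₂ := inf_le_inf_right _ (iSup_le fun k => le_iSup_of_le (some k) le_rfl)
    have hle1 : O ≤ (⨆ k, (W k).1) ⊓ f ⁻¹ᵁ U'.1 := inf_le_inf_left _ (f.preimage_mono hD1)
    have hle2 : O₂ ≤ (⨆ o, (W' o).1) ⊓ f ⁻¹ᵁ U₂.1 := inf_le_inf_left _ (f.preimage_mono hD2)
    have hs : ∀ z ∈ D, ∃ w ∈ O, f w = z := fun z hz => by
      obtain ⟨k, w, hw, hwz⟩ := hcov z (hU'U (hD1 hz))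
      exact ⟨w, ⟨le_iSup (fun k => (W k).1) k hw, show f w ∈ D from hwz ▸ hz⟩, hwz⟩
    have hr1 : Rat f φ D O inf_le_right (res L hle1 e) (resO Y hD1 α) (resO Y hD1 β) :=
      (hrat.res hle1).base hD1 _
    have hr2' : Rat f φ D O₂ inf_le_right (res L hle2 e₂) (resO Y hD2 α₂) (resO Y hD2 β₂) :=
      (hrat₂.res hle2).base hD2 _
    obtain ⟨u, hu⟩ := (he.res hle1 O le_rfl).2 (res L (hOO₂.trans hle2) e₂)
    simp only [res_self] at hu
    obtain ⟨v, hv⟩ := (he₂.res (hOO₂.trans hle2) O le_rfl).2 (res L hle1 e)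
    simp only [res_self] at hv
    have huv : v * u = 1 := (he.res hle1 O le_rfl).1 (by
      simp only [res_self]
      rw [mul_smul, hu, hv, one_smul])
    have hne : ∀ {U₁ : Y.affineOpens} [IsDomain Γ(Y, U₁.1)] (h : D ≤ U₁.1) {c : Γ(Y, U₁.1)}, c ≠ 0 →
        resO Y h c ≠ 0 := fun {U₁} _ h c hc => resO_ne_zero U₁.2 h hη hηD hc
    obtain ⟨γ, hγ⟩ := exists_ratio (U := ⟨D, hD⟩) hη hηD inf_le_right hs
      (t₁ := res L hle1 e) (t₂ := res L (hOO₂.trans hle2) e₂) hu.symm (hne hD1 hα) (hne hD2 hβ₂) hr1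
      (by
        have := hr2'.res hOO₂
        rw [res_res] at this
        exact this)
    have hγu : IsUnit γ := isUnit_of_appLE (f := f) (O := O) inf_le_right hs γ
      (hγ ▸ IsUnit.of_mul_eq_one_right v huv)
    let δ : Γ(Y, D) := ↑hγu.unit⁻¹
    have hA : Wx ⊓ f ⁻¹ᵁ D ≤ O₂ := inf_le_inf_right _ (le_iSup (fun o => (W' o).1) none)
    refine ⟨Wx ⊓ f ⁻¹ᵁ D, inf_le_right.trans (f.preimage_mono hD1),
      f.appLE D _ inf_le_right δ • res L (hA.trans hle2) e₂, ⟨hxWx, hxD⟩,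
      TMul.isGen_smul (he₂.res _) ((hγu.unit⁻¹).isUnit.map _), ?_⟩
    show cst f U'.1 _ _ β * _ = cst f U'.1 _ _ α
    rw [rho_appLE_smul]
    have hr3 := hr2'.res hA
    rw [res_res] at hr3
    change cst f D _ _ (resO Y hD2 β₂) * _ = cst f D _ _ (resO Y hD2 α₂) at hr3
    have hb₂ : IsUnit (cst f (η := η) D (Wx ⊓ f ⁻¹ᵁ D) inf_le_right (resO Y hD2 β₂)) :=
      isUnit_fibre f hη (U := ⟨D, hD⟩) hηD inf_le_right (hne hD2 hβ₂)
    -- the relation between the fractions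
    have hrel : resO Y hD2 α₂ * resO Y hD1 β = resO Y hD2 β₂ * resO Y hD1 α * γ := by
      refine sub_eq_zero.1 (eq_zero_of_appLE (f := f) (O := O) inf_le_right hs _ ?_)
      rw [map_sub, sub_eq_zero]
      refine sub_eq_zero.1 (eq_zero_of_fibre f hη (U := ⟨D, hD⟩) hηD inf_le_right _ ?_)
      rw [map_sub, sub_eq_zero]
      show cst f D O inf_le_right _ = cst f D O inf_le_right _
      have e1 : cst f D O inf_le_right (resO Y hD1 β) * rho f φ O (res L hle1 e) =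
          cst f D O inf_le_right (resO Y hD1 α) := hr1
      have e2 := hr2'.res hOO₂
      rw [res_res] at e2
      change cst f D O _ (resO Y hD2 β₂) * _ = cst f D O _ (resO Y hD2 α₂) at e2
      rw [← hu, hγ, rho_appLE_smul] at e2
      rw [map_mul, map_mul, map_mul]
      linear_combination (- cst f D O inf_le_right (resO Y hD1 β)) * e2
        + (cst f D O inf_le_right (resO Y hD2 β₂) * cst f D O inf_le_right γ) * e1
    rw [← cst_base f hD1 inf_le_right, ← cst_base f hD1 inf_le_right]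
    refine hb₂.mul_left_cancel ?_
    have hrel' := congrArg (cst f (η := η) D (Wx ⊓ f ⁻¹ᵁ D) inf_le_right) hrel
    rw [map_mul, map_mul, map_mul] at hrel'
    have hδ : cst f (η := η) D (Wx ⊓ f ⁻¹ᵁ D) inf_le_right γ * cst f D _ inf_le_right δ = 1 := by
      rw [← map_mul, show γ * δ = 1 from hγu.mul_val_inv, map_one]
    linear_combination (cst f D (Wx ⊓ f ⁻¹ᵁ D) inf_le_right (resO Y hD1 β) *
        cst f D (Wx ⊓ f ⁻¹ᵁ D) inf_le_right δ) * hr3
      + (cst f D (Wx ⊓ f ⁻¹ᵁ D) inf_le_right δ) * hrel'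
      + (cst f D (Wx ⊓ f ⁻¹ᵁ D) inf_le_right (resO Y hD2 β₂) *
        cst f D (Wx ⊓ f ⁻¹ᵁ D) inf_le_right (resO Y hD1 α)) * hδ
  choose A hA t hxA ht hrt using hloc
  obtain ⟨E, hE, -⟩ := TopCat.Sheaf.existsUnique_gluing' (Groth.Agent.QC.abSheaf L) A (f ⁻¹ᵁ U'.1)
    (fun x => homOfLE (hA x)) (fun x hx => Opens.mem_iSup.mpr ⟨⟨x, hx⟩, hxA _⟩) t (fun i j => by
      exact Rat.unique hη hL (U := U') hηU' hβ ((hrt i).res (inf_le_left : A i ⊓ A j ≤ A i))
        ((hrt j).res inf_le_right))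
  refine ⟨U', hU'U, hyU', hηU', hdom, E, α, β, hα, hβ,
    UfdExtend.isGen_of_locally fun x hx => ⟨A ⟨x, hx⟩, hA _, hxA _, by
      rw [show res L (hA ⟨x, hx⟩) E = t ⟨x, hx⟩ from hE ⟨x, hx⟩]; exact ht _⟩, ?_⟩
  refine TopCat.Presheaf.IsSheaf.section_ext (f.fiber η).sheaf.2 fun w hw => ?_
  let x : (f ⁻¹ᵁ U'.1 : X.Opens) := ⟨f.fiberι η w, hw⟩
  refine ⟨f.fiberι η ⁻¹ᵁ A x, (f.fiberι η).preimage_mono (hA x), hxA x, ?_⟩
  show resO _ _ (cst f U'.1 _ le_rfl β * rho f φ _ E) = resO _ _ (cst f U'.1 _ le_rfl α)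
  rw [map_mul, cst_res f _ (hA x), cst_res f _ (hA x), ← rho_res f φ (hA x),
    show res L (hA x) E = t x from hE x]
  exact hrt x

end Groth.Agent.DivDescMod
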