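import Groth.Agent.C1Cap.PullGen
import Groth.Agent.DivDesc.Scheme
import Groth.Agent.BlowUpLib.Basic
import Mathlib

/-!
Functions on the fibre over a generic point of a normal base, and sections of a module measured on that fibre.
-/

set_option autoImplicit false
set_option linter.style.haveILetI false
set_option backward.isDefEq.respectTransparency false

universe u

open CategoryTheory CategoryTheory.Limits AlgebraicGeometry TopologicalSpace Opposite
open Groth.Agent.QC (res resO res_res res_smul resO_resO app_res res_self resO_self)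
open TMul (IsGen)

noncomputable section

namespace Groth.Agent.DivDescMod

variable {X Y : Scheme.{u}} (f : X ⟶ Y) {η : Y}

section Point

variable (hη : IsField (Y.presheaf.stalk η))
include hη

theorem flat_fromSpecResidueField : Flat (Y.fromSpecResidueField η) := by
  haveI := DivDesc.flat_fromSpecStalk Y η
  have hb : Function.Bijective (Y.residue η).hom := by
    letI := hη.toField
    exact ⟨(Y.residue η).hom.injective, Y.residue_surjective η⟩
  haveI : IsIso (Y.residue η) := (ConcreteCategory.isIso_iff_bijective _).2 hb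
  show Flat (Spec.map (Y.residue η) ≫ Y.fromSpecStalk η)
  infer_instance

theorem bijective_stalkMap_fiberι (w : f.fiber η) : Function.Bijective ((f.fiberι η).stalkMap w).hom := by
  haveI := flat_fromSpecResidueField hη
  haveI : Flat (f.fiberι η) :=
    MorphismProperty.of_isPullback (P := @Flat) (IsPullback.of_hasPullback f (Y.fromSpecResidueField η)).flip
      inferInstance
  refine ⟨?_, (f.fiberι η).stalkMap_surjective w⟩
  algebraize [((f.fiberι η).stalkMap w).hom]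
  haveI : Module.Flat (X.presheaf.stalk (f.fiberι η w)) ((f.fiber η).presheaf.stalk w) := Flat.stalkMap _ w
  haveI : IsLocalHom (algebraMap (X.presheaf.stalk (f.fiberι η w)) ((f.fiber η).presheaf.stalk w)) :=
    inferInstanceAs (IsLocalHom ((f.fiberι η).stalkMap w).hom)
  haveI := Module.FaithfullyFlat.of_flat_of_isLocalHom (A := X.presheaf.stalk (f.fiberι η w))
    (B := (f.fiber η).presheaf.stalk w)
  exact FaithfulSMul.algebraMap_injective _ _

/-- The only prime over a generic point of a domain is zero. -/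
theorem prime_eq_bot {U : Y.affineOpens} [IsDomain Γ(Y, U.1)] (hU : η ∈ U.1) :
    (U.2.primeIdealOf ⟨η, hU⟩).asIdeal = ⊥ := by
  letI := (Y.presheaf.germ U.1 η hU).hom.toAlgebra
  haveI := U.2.isLocalization_stalk ⟨η, hU⟩
  set p := (U.2.primeIdealOf ⟨η, hU⟩).asIdeal
  refine (Submodule.eq_bot_iff _).2 fun a ha => ?_
  by_contra ha0
  have hinj : Function.Injective (algebraMap Γ(Y, U.1) (Y.presheaf.stalk η)) :=
    IsLocalization.injective _ p.primeCompl_le_nonZeroDivisors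
  have hu : IsUnit (algebraMap Γ(Y, U.1) (Y.presheaf.stalk η) a) := by
    obtain ⟨b, hb⟩ := hη.mul_inv_cancel (show algebraMap Γ(Y, U.1) (Y.presheaf.stalk η) a ≠ 0 from
      fun h => ha0 (hinj (h.trans (map_zero _).symm)))
    exact IsUnit.of_mul_eq_one b hb
  exact (IsLocalization.AtPrime.isUnit_to_map_iff (Y.presheaf.stalk η) p a).1 hu ha

theorem mem_basicOpen_of_ne_zero {U : Y.affineOpens} [IsDomain Γ(Y, U.1)] (hU : η ∈ U.1) {a : Γ(Y, U.1)}
    (ha : a ≠ 0) : η ∈ Y.basicOpen a := by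
  letI := (Y.presheaf.germ U.1 η hU).hom.toAlgebra
  haveI := U.2.isLocalization_stalk ⟨η, hU⟩
  rw [Y.mem_basicOpen a η hU]
  exact IsLocalization.map_units (Y.presheaf.stalk η)
    (M := (U.2.primeIdealOf ⟨η, hU⟩).asIdeal.primeCompl) ⟨a, fun h => ha (by
      change a ∈ (U.2.primeIdealOf ⟨η, hU⟩).asIdeal at h
      rwa [prime_eq_bot hη hU, Ideal.mem_bot] at h)⟩

/-- Nonzero functions of the base are units on the generic fibre. -/
theorem isUnit_fibre {U : Y.affineOpens} [IsDomain Γ(Y, U.1)] (hU : η ∈ U.1) {O : X.Opens} (e : O ≤ f ⁻¹ᵁ U.1)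
    {a : Γ(Y, U.1)} (ha : a ≠ 0) : IsUnit ((f.fiberι η).app O ((f.appLE U.1 O e) a)) := by
  refine RingedSpace.isUnit_of_isUnit_germ _ _ _ fun w hw => ?_
  rw [← Scheme.mem_basicOpen]
  have h : w ∈ f.fiberι η ⁻¹ᵁ X.basicOpen ((f.appLE U.1 O e) a) := by
    show f.fiberι η w ∈ X.basicOpen _
    rw [Scheme.basicOpen_appLE]
    refine ⟨hw, ?_⟩
    show f (f.fiberι η w) ∈ Y.basicOpen a
    rw [show f (f.fiberι η w) = η from (f.range_fiberι η).subset ⟨w, rfl⟩]
    exact mem_basicOpen_of_ne_zero hη hU ha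
  rwa [Scheme.preimage_basicOpen] at h

omit hη in
/-- An ideal with no prime over the generic point contains a nonzero element of the base. -/
theorem exists_ne_zero_mem {A B : Type u} [CommRing A] [IsDomain A] [CommRing B] [Algebra A B] (I : Ideal B)
    (h : ∀ q : Ideal B, q.IsPrime → q.comap (algebraMap A B) = ⊥ → ¬ I ≤ q) :
    ∃ a : A, a ≠ 0 ∧ algebraMap A B a ∈ I := by
  by_contra hno
  push Not at hno
  have hd : Disjoint (I : Set B) ((nonZeroDivisors A).map (algebraMap A B) : Submonoid B) := by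
    rw [Set.disjoint_left]
    rintro z hz ⟨a, ha, rfl⟩
    exact hno a (nonZeroDivisors.ne_zero ha) hz
  obtain ⟨q, hq, hIq, hdq⟩ := Ideal.exists_le_prime_disjoint I _ hd
  refine h q hq ((Submodule.eq_bot_iff _).2 fun a ha => ?_) hIq
  by_contra ha0
  exact Set.disjoint_left.1 hdq ha ⟨a, mem_nonZeroDivisors_of_ne_zero ha0, rfl⟩

theorem exists_fibre_point {U : Y.affineOpens} [IsDomain Γ(Y, U.1)] (hU : η ∈ U.1) {W : X.affineOpens}
    (e : W.1 ≤ f ⁻¹ᵁ U.1) {q : PrimeSpectrum Γ(X, W.1)}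
    (hq : q.asIdeal.comap (f.appLE U.1 W.1 e).hom = ⊥) : ∃ w : f.fiber η, f.fiberι η w = W.2.fromSpec q := by
  have h : f (W.2.fromSpec q) = η := by
    have h1 := congr($(IsAffineOpen.SpecMap_appLE_fromSpec f U.2 W.2 e).base q)
    refine h1.symm.trans (Eq.trans ?_ (U.2.fromSpec_primeIdealOf ⟨η, hU⟩))
    refine congrArg U.2.fromSpec (PrimeSpectrum.ext ?_)
    rw [prime_eq_bot hη hU]
    exact hq
  exact (f.range_fiberι η).symm.subset (h : W.2.fromSpec q ∈ f ⁻¹' {η})

variable [Flat f]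

/-- A function vanishing on the generic fibre vanishes. -/
theorem eq_zero_of_fibre {U : Y.affineOpens} [IsDomain Γ(Y, U.1)] (hU : η ∈ U.1) {O : X.Opens}
    (e : O ≤ f ⁻¹ᵁ U.1) (u : Γ(X, O)) (h : (f.fiberι η).app O u = 0) : u = 0 := by
  refine TopCat.Presheaf.IsSheaf.section_ext X.sheaf.2 fun x hx => ?_
  obtain ⟨W, hW, hxW, hWO⟩ := exists_isAffineOpen_mem_and_subset hx
  refine ⟨W, hWO, hxW, ?_⟩
  rw [map_zero]
  let u' : Γ(X, W) := resO X hWO u
  show u' = 0
  let φ := f.appLE U.1 W (hWO.trans e)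
  letI : Algebra Γ(Y, U.1) Γ(X, W) := φ.hom.toAlgebra
  let I : Ideal Γ(X, W) := LinearMap.ker (LinearMap.toSpanSingleton Γ(X, W) Γ(X, W) u')
  have hI : ∀ c, c ∈ I ↔ c * u' = 0 := fun c => Iff.rfl
  obtain ⟨a, ha, haI⟩ := exists_ne_zero_mem (A := Γ(Y, U.1)) I fun q hqp hq hIq => by
    obtain ⟨w, hw⟩ := exists_fibre_point f hη hU (W := ⟨W, hW⟩) (hWO.trans e) (q := ⟨q, hqp⟩) hq
    have hxW' : hW.fromSpec ⟨q, hqp⟩ ∈ W := hW.range_fromSpec.le ⟨_, rfl⟩
    have hwW : f.fiberι η w ∈ W := hw ▸ hxW'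
    have h1 : (X.presheaf.germ W (f.fiberι η w) hwW) u' = 0 := by
      apply (bijective_stalkMap_fiberι f hη w).1
      rw [map_zero, Scheme.Hom.germ_stalkMap_apply]
      have h2 : (f.fiberι η).app W u' = 0 := by
        have h3 := congr($((f.fiberι η).naturality (homOfLE hWO).op) u)
        refine h3.trans ?_
        show (f.fiber η).presheaf.map _ ((f.fiberι η).app O u) = 0
        rw [h, map_zero]
      rw [h2, map_zero]
    letI := (X.presheaf.germ W (f.fiberι η w) hwW).hom.toAlgebra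
    haveI := hW.isLocalization_stalk ⟨_, hwW⟩
    obtain ⟨s, hs⟩ := (IsLocalization.map_eq_zero_iff
      (hW.primeIdealOf ⟨_, hwW⟩).asIdeal.primeCompl (X.presheaf.stalk (f.fiberι η w)) u').1 h1
    refine s.2 ?_
    have hp : (hW.primeIdealOf ⟨f.fiberι η w, hwW⟩).asIdeal = q := congrArg PrimeSpectrum.asIdeal
      (hW.fromSpec.isOpenEmbedding.injective ((hW.fromSpec_primeIdealOf _).trans hw) :
        hW.primeIdealOf ⟨f.fiberι η w, hwW⟩ = ⟨q, hqp⟩)
    exact hp.symm.le (hIq ((hI _).2 hs))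
  have hnz := BlowUpLib.mem_nonZeroDivisors_map_of_flat φ (f.flat_appLE U.2 hW (hWO.trans e))
    (mem_nonZeroDivisors_of_ne_zero ha)
  exact hnz.1 u' ((hI _).1 haI)

/-- A function on the generic fibre of an affine open is a fraction. -/
theorem exists_frac {U : Y.affineOpens} [IsDomain Γ(Y, U.1)] (hU : η ∈ U.1) (W : X.affineOpens)
    (e : W.1 ≤ f ⁻¹ᵁ U.1) (v : Γ(f.fiber η, f.fiberι η ⁻¹ᵁ W.1)) :
    ∃ (a : Γ(Y, U.1)) (b : Γ(X, W.1)), a ≠ 0 ∧
      (f.fiberι η).app W.1 ((f.appLE U.1 W.1 e) a) * v = (f.fiberι η).app W.1 b := by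
  let ι := f.fiberι η
  let R : Γ(X, W.1) →+* Γ(f.fiber η, ι ⁻¹ᵁ W.1) := (ι.app W.1).hom
  let g := Y.fromSpecResidueField η
  have haff : IsAffineOpen (ι ⁻¹ᵁ W.1) := by
    have hg : (⊤ : (Spec (Y.residueField η)).Opens) ≤ g ⁻¹ᵁ U.1 := fun z _ => by
      show g z ∈ U.1
      rw [show g z = η from (Y.range_fromSpecResidueField η).subset ⟨z, rfl⟩]
      exact hU
    haveI : IsAffine U.1.toScheme := U.2
    haveI : IsAffine W.1.toScheme := W.2
    haveI : IsAffine (⊤ : (Spec (Y.residueField η)).Opens).toScheme := isAffineOpen_top _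
    have h := Scheme.Hom.isPullback_resLE (IsPullback.of_hasPullback f g) hg e rfl
    have h' : IsAffineOpen (pullback.fst f g ⁻¹ᵁ W.1 ⊓ pullback.snd f g ⁻¹ᵁ ⊤) :=
      .of_isIso h.isoPullback.hom
    have htop : pullback.fst f g ⁻¹ᵁ W.1 ⊓ pullback.snd f g ⁻¹ᵁ ⊤ = pullback.fst f g ⁻¹ᵁ W.1 := by simp
    rw [htop] at h'
    exact h'
  letI : Algebra Γ(Y, U.1) Γ(X, W.1) := (f.appLE U.1 W.1 e).hom.toAlgebra
  let I : Ideal Γ(X, W.1) :=
    { carrier := {c | ∃ b, R c * v = R b}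
      add_mem' := by
        rintro c d ⟨b, hb⟩ ⟨b', hb'⟩
        exact ⟨b + b', by rw [map_add, map_add, add_mul, hb, hb']⟩
      zero_mem' := ⟨0, by rw [map_zero, zero_mul]⟩
      smul_mem' := by
        rintro c d ⟨b, hb⟩
        exact ⟨c * b, by rw [smul_eq_mul, map_mul, map_mul, mul_assoc, hb]⟩ }
  obtain ⟨a, ha, b, hb⟩ := exists_ne_zero_mem (A := Γ(Y, U.1)) I fun q hqp hq hIq => by
    obtain ⟨w, hw⟩ := exists_fibre_point f hη hU (W := W) e (q := ⟨q, hqp⟩) hq
    have hxW : W.2.fromSpec ⟨q, hqp⟩ ∈ W.1 := W.2.range_fromSpec.le ⟨_, rfl⟩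
    have hwW : ι w ∈ W.1 := hw ▸ hxW
    have hp : (W.2.primeIdealOf ⟨ι w, hwW⟩).asIdeal = q := congrArg PrimeSpectrum.asIdeal
      (W.2.fromSpec.isOpenEmbedding.injective ((W.2.fromSpec_primeIdealOf ⟨ι w, hwW⟩).trans hw) :
        W.2.primeIdealOf ⟨ι w, hwW⟩ = ⟨q, hqp⟩)
    letI := (X.presheaf.germ W.1 (ι w) hwW).hom.toAlgebra
    haveI : IsLocalization.AtPrime (X.presheaf.stalk (ι w)) (W.2.primeIdealOf ⟨ι w, hwW⟩).asIdeal :=
      W.2.isLocalization_stalk ⟨ι w, hwW⟩
    obtain ⟨σ, hσ⟩ := (bijective_stalkMap_fiberι f hη w).2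
      ((f.fiber η).presheaf.germ (ι ⁻¹ᵁ W.1) w hwW v)
    obtain ⟨⟨b₀, s⟩, hbs⟩ := IsLocalization.surj (W.2.primeIdealOf ⟨ι w, hwW⟩).asIdeal.primeCompl σ
    have h1 : (f.fiber η).presheaf.germ (ι ⁻¹ᵁ W.1) w hwW (R s * v) =
        (f.fiber η).presheaf.germ (ι ⁻¹ᵁ W.1) w hwW (R b₀) := by
      have := congrArg (ι.stalkMap w).hom hbs
      rw [map_mul, hσ] at this
      rw [map_mul, mul_comm]
      have hgerm : ∀ z : Γ(X, W.1), (ι.stalkMap w).hom (algebraMap Γ(X, W.1) (X.presheaf.stalk (ι w)) z) =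
          (f.fiber η).presheaf.germ (ι ⁻¹ᵁ W.1) w hwW (R z) := fun z =>
        Scheme.Hom.germ_stalkMap_apply ι W.1 w hwW z
      rw [hgerm, hgerm] at this
      exact this
    obtain ⟨N, hwN, i₁, i₂, hN⟩ := TopCat.Presheaf.germ_eq _ w hwW hwW _ _ h1
    obtain ⟨N₀, hN₀, hN₀N⟩ := ι.isEmbedding.isInducing.isOpen_iff.1 N.2
    have hwN₀ : ι w ∈ N₀ := by
      have : w ∈ ι ⁻¹' N₀ := hN₀N.symm ▸ hwN
      exact this
    obtain ⟨c, hcle, hwc⟩ := W.2.exists_basicOpen_le (V := ⟨N₀, hN₀⟩) ⟨ι w, hwN₀⟩ hwW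
    have hle : (f.fiber η).basicOpen (R c) ≤ N := by
      show (f.fiber η).basicOpen (ι.app W.1 c) ≤ N
      rw [← Scheme.preimage_basicOpen]
      intro z hz
      exact hN₀N.le (show z ∈ ι ⁻¹' N₀ from hcle hz)
    haveI := haff.isLocalization_basicOpen (R c)
    have h2 : algebraMap _ Γ(f.fiber η, (f.fiber η).basicOpen (R c)) (R s * v) =
        algebraMap _ Γ(f.fiber η, (f.fiber η).basicOpen (R c)) (R b₀) := by
      have h3 := congrArg (resO (f.fiber η) hle) hN
      change resO _ hle (resO _ (leOfHom i₁) _) = resO _ hle (resO _ (leOfHom i₂) _) at h3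
      rw [resO_resO, resO_resO] at h3
      exact h3
    obtain ⟨⟨_, n, rfl⟩, hn⟩ := (IsLocalization.eq_iff_exists (Submonoid.powers (R c)) _).1 h2
    have hmem : c ^ n * (s : Γ(X, W.1)) ∈ I := ⟨c ^ n * b₀, by
      simp only at hn
      rw [map_mul, map_mul, map_pow, mul_assoc]
      exact hn⟩
    have hcq : c ∉ q := by
      rw [← hp]
      intro hc
      have hu : IsUnit (algebraMap Γ(X, W.1) (X.presheaf.stalk (ι w)) c) := (X.mem_basicOpen c (ι w) hwW).1 hwc
      exact ((IsLocalization.AtPrime.isUnit_to_map_iff _ _ c).1 hu) hc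
    rcases hqp.mem_or_mem (hIq hmem) with h | h
    · exact hcq (hqp.mem_of_pow_mem n h)
    · exact s.2 (hp.symm.le h)
  exact ⟨a, b, ha, hb⟩

end Point

end Groth.Agent.DivDescMod
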