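import Groth.Agent.DivDescMod.Rat
import Groth.Agent.Catenary.NormalDepth
import Groth.Agent.UfdExtend.Glue
import Mathlib

/-!
Rational generators over small opens of the base.
-/

set_option autoImplicit false
set_option linter.style.haveILetI false
set_option backward.isDefEq.respectTransparency false

universe u

open CategoryTheory CategoryTheory.Limits AlgebraicGeometry TopologicalSpace Opposite
open Groth.Agent.QC (res resO res_res res_smul resO_resO app_res res_self resO_self)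
open TMul (IsGen)

noncomputable section

namespace Groth.Agent.DivDescMod

variable {X Y : Scheme.{u}} {f : X ⟶ Y} {η : Y} {L : X.Modules}
  {φ : (Scheme.Modules.pullback (f.fiberι η)).obj L ≅ Coh.structureModule (f.fiber η)}

theorem smul_restrict_ι {V : X.Opens} (W₀ : V.toScheme.Opens) (c : Γ(X, V.ι ''ᵁ W₀))
    (m : Γ(L, V.ι ''ᵁ W₀)) :
    @HSMul.hSMul Γ(V.toScheme, W₀) Γ(L.restrict V.ι, W₀) Γ(L.restrict V.ι, W₀) _ c m = c • m := by
  show (V.ι.appIso W₀).inv c • m = c • m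
  rw [Scheme.Opens.ι_appIso]
  rfl

theorem specializes_of_generic (hη : IsField (Y.presheaf.stalk η)) {U : Y.affineOpens} [IsDomain Γ(Y, U.1)]
    (hU : η ∈ U.1) {y : Y} (hy : y ∈ U.1) : η ⤳ y := by
  have h : U.2.primeIdealOf ⟨η, hU⟩ ⤳ U.2.primeIdealOf ⟨y, hy⟩ := by
    refine (PrimeSpectrum.le_iff_specializes _ _).1 ?_
    show (U.2.primeIdealOf ⟨η, hU⟩).asIdeal ≤ _
    rw [prime_eq_bot hη hU]
    exact bot_le
  have h2 := h.map U.2.fromSpec.continuous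
  rwa [U.2.fromSpec_primeIdealOf, U.2.fromSpec_primeIdealOf] at h2

variable [IsLocallyNoetherian X] [IsLocallyNoetherian Y] [Flat f]

/-- Over a neighbourhood of every point a rational generator on a finite union of charts. -/
theorem exists_gen_local (hY : Pi1.IsNormalScheme Y)
    (hfib : ∀ y : Y, ringKrullDim (Y.presheaf.stalk y) = 1 → IsIntegral (f.fiber y))
    (hη : IsField (Y.presheaf.stalk η)) (hL : PicF.IsInvertible L) {U : Y.affineOpens} [IsDomain Γ(Y, U.1)]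
    (hU : η ∈ U.1) (φ : (Scheme.Modules.pullback (f.fiberι η)).obj L ≅ Coh.structureModule (f.fiber η))
    {κ : Type u} [Fintype κ] (W : κ → X.affineOpens) (hW : ∀ k, (W k).1 ≤ f ⁻¹ᵁ U.1)
    (g : ∀ k, Γ(L, (W k).1)) (hg : ∀ k, IsGen (g k))
    (hcov : ∀ y ∈ U.1, ∃ k, ∃ x ∈ (W k).1, f x = y) {y : Y} (hy : y ∈ U.1) :
    ∃ U' : Y.affineOpens, U'.1 ≤ U.1 ∧ y ∈ U'.1 ∧ η ∈ U'.1 ∧ IsDomain Γ(Y, U'.1) ∧
      ∃ (e : Γ(L, (⨆ k, (W k).1) ⊓ f ⁻¹ᵁ U'.1)) (α β : Γ(Y, U'.1)), α ≠ 0 ∧ β ≠ 0 ∧ IsGen e ∧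
        Rat f φ U'.1 ((⨆ k, (W k).1) ⊓ f ⁻¹ᵁ U'.1) inf_le_right e α β := by
  classical
  obtain ⟨a, s, ha, hs⟩ := exists_section (φ := φ) hη hL hU W hW g hg
  generalize hVdef : (⨆ k, (W k).1) = V
  have eV : V ≤ f ⁻¹ᵁ U.1 := hVdef ▸ iSup_le hW
  subst hVdef
  let V := ⨆ k, (W k).1
  let f' := f.resLE U.1 V eV
  haveI hflat : Flat f' := by
    dsimp [f', Scheme.Hom.resLE]
    infer_instance
  haveI hsurj : Surjective f' := ⟨fun z => by
    obtain ⟨k, x, hx, hfx⟩ := hcov z.1 z.2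
    refine ⟨⟨x, le_iSup (fun k => (W k).1) k hx⟩, Subtype.ext ?_⟩
    exact (congr($(Scheme.Hom.resLE_comp_ι f eV).base (⟨x, le_iSup (fun k => (W k).1) k hx⟩ : V.toScheme))).trans hfx⟩
  haveI : IsLocallyNoetherian V.toScheme := LocallyOfFiniteType.isLocallyNoetherian V.ι
  haveI : IsLocallyNoetherian U.1.toScheme := LocallyOfFiniteType.isLocallyNoetherian U.1.ι
  haveI : IsAffine U.1.toScheme := U.2
  haveI : Nonempty U.1.toScheme := ⟨⟨η, hU⟩⟩
  haveI : IsIntegral U.1.toScheme := isIntegral_of_isOpenImmersion U.2.isoSpec.hom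
  haveI : CompactSpace V.toScheme := by
    refine isCompact_iff_compactSpace.mp (?_ : IsCompact (V : Set X))
    simp only [V, Opens.coe_iSup]
    exact isCompact_iUnion fun k => (W k).2.isCompact
  haveI : QuasiCompact f' := HasAffineProperty.iff_of_isAffine.mpr ‹CompactSpace V.toScheme›
  -- the section on the open subscheme
  let L' := L.restrict V.ι
  have htop : V.ι ''ᵁ ⊤ ≤ V := (V.ι.image_le_opensRange _).trans V.opensRange_ι.le
  let s' : Γ(L', ⊤) := res L htop s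
  let σ := TMul.homOf (L := L') s'
  have hL' : PicF.IsInvertible L' := TMul.isInvertible_restrict V.ι hL
  let 𝓙 := PicF2.zeroScheme L' σ
  -- the local generator of the ideal
  have hchart : ∀ (W₀ : V.toScheme.affineOpens) (g : Γ(L, V.ι ''ᵁ W₀.1)), IsGen g →
      ∃ c : Γ(X, V.ι ''ᵁ W₀.1), res L (V.ι_image_le W₀.1) s = c • g ∧
        𝓙.ideal W₀ = Ideal.span {(c : Γ(V.toScheme, W₀.1))} ∧
        (c : Γ(V.toScheme, W₀.1)) ∈ nonZeroDivisors Γ(V.toScheme, W₀.1) ∧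
        IsUnit ((f.fiberι η).app (V.ι ''ᵁ W₀.1) c) := by
    intro W₀ g hg
    have e₀ : V.ι ''ᵁ W₀.1 ≤ f ⁻¹ᵁ U.1 := (V.ι_image_le W₀.1).trans eV
    obtain ⟨c, hc⟩ := (hg _ le_rfl).2 (res L (V.ι_image_le W₀.1) s)
    simp only [res_self] at hc
    have hu : IsUnit ((f.fiberι η).app (V.ι ''ᵁ W₀.1) c) := by
      have h := hs.res (V.ι_image_le W₀.1)
      rw [← hc] at h
      change cst f U.1 _ e₀ 1 * rho f φ _ (c • g) = cst f U.1 _ e₀ a at h
      rw [map_one, one_mul, rho_smul] at h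
      have hua : IsUnit (cst f (η := η) U.1 _ e₀ a) := isUnit_fibre f hη hU e₀ ha
      rw [← h] at hua
      exact isUnit_of_mul_isUnit_left hua
    refine ⟨c, hc.symm, ZeroSch.ideal_zeroScheme_eq_span σ hL' W₀ (TMul.isGen_of_isGen_image V.ι g hg) ?_,
      ?_, hu⟩
    · show TMul.val (TMul.homOf (L := L') s') W₀.1 = _
      rw [TMul.val_homOf, smul_restrict_ι W₀.1 c g, hc]
      exact res_res L _ _ _
    · refine mem_nonZeroDivisors_iff_right.2 fun z hz => ?_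
      refine eq_zero_of_fibre f hη hU e₀ (z : Γ(X, V.ι ''ᵁ W₀.1)) ?_
      refine hu.mul_left_eq_zero.1 ?_
      rw [← map_mul]
      exact (congrArg _ hz).trans (map_zero _)
  have hgen : ∀ (x : V.toScheme) (O : V.toScheme.Opens), x ∈ O → ∃ (W₀ : V.toScheme.affineOpens)
      (g : Γ(L, V.ι ''ᵁ W₀.1)), x ∈ W₀.1 ∧ W₀.1 ≤ O ∧ IsGen g := by
    intro x O hxO
    obtain ⟨A, g₁, hxA, hg₁⟩ := TMul.exists_isGen hL (V.ι x)
    obtain ⟨W₀, hW₀, hxW₀, hW₀le⟩ := exists_isAffineOpen_mem_and_subset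
      (show x ∈ V.ι ⁻¹ᵁ A ⊓ O from ⟨hxA, hxO⟩)
    have hle : V.ι ''ᵁ W₀ ≤ A := (V.ι.image_mono (show W₀ ≤ V.ι ⁻¹ᵁ A from hW₀le.trans inf_le_left)).trans
      (by rw [Scheme.Hom.image_preimage_eq_opensRange_inf]; exact inf_le_right)
    exact ⟨⟨W₀, hW₀⟩, res L hle g₁, hxW₀, hW₀le.trans inf_le_right, hg₁.res hle⟩
  have hJ : BlowUp.IsEffCartierIdeal 𝓙 := fun x => by
    obtain ⟨W₀, g, hx, -, hg⟩ := hgen x ⊤ trivial
    obtain ⟨c, -, hc, hc', -⟩ := hchart W₀ g hg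
    exact ⟨W₀, hx, _, hc', hc⟩
  have hsupp : ∀ x : V.toScheme, (∀ z : U.1.toScheme, z ⤳ f' x → z = f' x) → x ∉ 𝓙.support := by
    intro x hx
    obtain ⟨W₀, g, hxW, -, hg⟩ := hgen x ⊤ trivial
    obtain ⟨c, -, hc, -, hu⟩ := hchart W₀ g hg
    rw [BlowUpLib.mem_basicOpen_of_notMem_support hc hxW]
    have hfx : f x.1 = η := by
      have h1 : (U.1.ι (f' x)) = f x.1 := congr($(Scheme.Hom.resLE_comp_ι f eV).base x)
      rw [← h1]
      have h2 : (⟨η, hU⟩ : U.1.toScheme) ⤳ f' x := by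
        refine (U.1.ι.isOpenEmbedding.isInducing.specializes_iff).1 ?_
        exact specializes_of_generic hη hU (f' x).2
      exact (congrArg Subtype.val (hx _ h2)).symm
    obtain ⟨w, hw⟩ := (f.range_fiberι η).symm.subset (hfx : x.1 ∈ f ⁻¹' {η})
    have hwW : f.fiberι η w ∈ V.ι ''ᵁ W₀.1 := by rw [hw]; exact ⟨x, hxW, rfl⟩
    have hmem : w ∈ (f.fiber η).basicOpen ((f.fiberι η).app (V.ι ''ᵁ W₀.1) c) :=
      ((f.fiber η).mem_basicOpen _ w hwW).2 (hu.map _)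
    rw [← Scheme.preimage_basicOpen] at hmem
    have hmem' : x.1 ∈ X.basicOpen c := hw ▸ hmem
    have hbo : V.ι ''ᵁ V.toScheme.basicOpen (c : Γ(V.toScheme, W₀.1)) = X.basicOpen c := by
      rw [Scheme.image_basicOpen, Scheme.Opens.ι_appIso]
      rfl
    rw [← hbo] at hmem'
    obtain ⟨x', hx', hxx⟩ := hmem'
    rwa [V.ι.isOpenEmbedding.injective hxx] at hx'
  have hY' : Pi1.IsNormalScheme U.1.toScheme := fun z => by
    obtain ⟨h1, h2⟩ := hY z.1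
    let e := (U.1.stalkIso z).commRingCatIsoToRingEquiv
    exact ⟨e.injective.isDomain e.toRingHom, IsIntegrallyClosed.of_equiv e.symm⟩
  have hfib' : ∀ z : U.1.toScheme, ringKrullDim (U.1.toScheme.presheaf.stalk z) = 1 →
      IsIntegral (f'.fiber z) := fun z hz => by
    haveI : IsIntegral (f.fiber (U.1.ι z)) := hfib z.1 ((ringKrullDim_eq_of_ringEquiv (U.1.stalkIso z).commRingCatIsoToRingEquiv).symm.trans hz)
    obtain ⟨j, hj⟩ := exists_fibre_restrict f eV z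
    obtain ⟨x, hx⟩ := f'.surjective z
    haveI : Nonempty (f'.fiber z) := ⟨(f'.fiberHomeo z).symm ⟨x, hx⟩⟩
    haveI := hj
    exact isIntegral_of_isOpenImmersion j
  obtain ⟨𝓘, hI, hIJ⟩ := DivDesc.exists_descent f' (Or.inl inferInstance) 𝓙 hJ fun U₁ p hd => by
    refine DivDesc.exists_agree_of_dim_le_one f' hY' hfib' 𝓙 hJ hsupp U₁ p ?_
    haveI : IsDomain (U.1.toScheme.presheaf.stalk (U₁.2.fromSpec p)) := (hY' _).1
    haveI : IsIntegrallyClosed (U.1.toScheme.presheaf.stalk (U₁.2.fromSpec p)) := (hY' _).2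
    by_contra hdim
    exact absurd (le_trans (Catenary.two_le_depth_of_normal hdim) hd) (by norm_num)
  obtain ⟨V₀, hyV₀, -, b, hb, hbe⟩ :=
    BlowUpLib.exists_small_generator hI (O := ⊤) (x := (⟨y, hy⟩ : U.1.toScheme)) trivial
  let U' : Y.affineOpens := ⟨U.1.ι ''ᵁ V₀.1, V₀.2.image_of_isOpenImmersion U.1.ι⟩
  have hU'U : U'.1 ≤ U.1 := U.1.ι_image_le V₀.1
  have hyU' : y ∈ U'.1 := ⟨⟨y, hy⟩, hyV₀, rfl⟩
  have hηU' : η ∈ U'.1 := (specializes_of_generic hη hU hy).mem_open U'.1.2 hyU'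
  haveI : Nonempty V₀.1.toScheme := ⟨⟨_, hyV₀⟩⟩
  haveI hdom : IsDomain Γ(Y, U'.1) := inferInstanceAs (IsDomain Γ(U.1.toScheme, V₀.1))
  have hbne : (b : Γ(Y, U'.1)) ≠ 0 := nonZeroDivisors.ne_zero hb
  have hα : resO Y hU'U a ≠ 0 := resO_ne_zero U.2 hU'U hη hηU' ha
  -- generators near each point
  let O := V ⊓ f ⁻¹ᵁ U'.1
  have hloc : ∀ x : O, ∃ (A : X.Opens) (hA : A ≤ O) (e : Γ(L, A)), x.1 ∈ A ∧ IsGen e ∧
      Rat f φ U'.1 A (hA.trans inf_le_right) e (resO Y hU'U a) (b : Γ(Y, U'.1)) := by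
    intro x
    have hxO : (⟨x.1, x.2.1⟩ : V.toScheme) ∈ f' ⁻¹ᵁ V₀.1 := by
      have h1 : U.1.ι (f' ⟨x.1, x.2.1⟩) = f x.1 :=
        congr($(Scheme.Hom.resLE_comp_ι f eV).base (⟨x.1, x.2.1⟩ : V.toScheme))
      obtain ⟨z, hz, hzx⟩ := (x.2.2 : f x.1 ∈ U.1.ι ''ᵁ V₀.1)
      rwa [U.1.ι.isOpenEmbedding.injective (hzx.trans h1.symm)] at hz
    obtain ⟨W₀, g, hxW, hWle, hg⟩ := hgen _ _ hxO
    obtain ⟨c, hc, hce, hcnz, -⟩ := hchart W₀ g hg
    have hA : V.ι ''ᵁ W₀.1 ≤ O := le_inf (V.ι_image_le W₀.1)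
      ((Scheme.Hom.le_resLE_preimage_iff f eV V₀.1 W₀.1).mp hWle)
    let β₀ : Γ(X, V.ι ''ᵁ W₀.1) := f.appLE U'.1 (V.ι ''ᵁ W₀.1) (hA.trans inf_le_right) b
    have hideal : Ideal.span {(c : Γ(V.toScheme, W₀.1))} = Ideal.span {(β₀ : Γ(V.toScheme, W₀.1))} := by
      rw [← hce, ← hIJ, FpqcDescent.ideal_comap_appLE 𝓘 f' V₀ W₀ hWle, hbe, Ideal.map_span,
        Set.image_singleton, Scheme.Hom.resLE_appLE]
      rfl
    obtain ⟨d, hd⟩ := Ideal.mem_span_singleton.1 (hideal ▸ Ideal.mem_span_singleton_self (c : Γ(V.toScheme, W₀.1)))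
    obtain ⟨d', hd'⟩ := Ideal.mem_span_singleton.1
      (hideal.symm ▸ Ideal.mem_span_singleton_self (β₀ : Γ(V.toScheme, W₀.1)))
    have hdu : IsUnit (d : Γ(X, V.ι ''ᵁ W₀.1)) := by
      refine IsUnit.of_mul_eq_one (M := Γ(V.toScheme, W₀.1)) d' ?_
      refine (mul_cancel_left_mem_nonZeroDivisors hcnz).1 ?_
      rw [mul_one, mul_left_comm, ← hd', mul_comm]
      exact hd.symm
    refine ⟨V.ι ''ᵁ W₀.1, hA, (d : Γ(X, V.ι ''ᵁ W₀.1)) • g, ⟨⟨x.1, x.2.1⟩, hxW, rfl⟩,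
      TMul.isGen_smul hg hdu, ?_⟩
    have h1 : β₀ • ((d : Γ(X, V.ι ''ᵁ W₀.1)) • g) = res L (V.ι_image_le W₀.1) s := by
      rw [hc, smul_smul]
      exact congrArg (· • g) hd.symm
    have h2 := (hs.res (V.ι_image_le W₀.1)).base hU'U (hA.trans inf_le_right)
    show cst f U'.1 _ _ (b : Γ(Y, U'.1)) * _ = cst f U'.1 _ _ (resO Y hU'U a)
    rw [← rho_appLE_smul]
    change rho f φ _ (β₀ • _) = _
    rw [h1, ← one_mul (rho f φ _ _), ← map_one (cst f (η := η) U'.1 _ (hA.trans inf_le_right)),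
      ← map_one (resO Y hU'U)]
    exact h2
  choose A hA e hxA he hrat using hloc
  obtain ⟨E, hE, -⟩ := TopCat.Sheaf.existsUnique_gluing' (Groth.Agent.QC.abSheaf L) A O
    (fun x => homOfLE (hA x)) (fun x hx => Opens.mem_iSup.mpr ⟨⟨x, hx⟩, hxA _⟩) e (fun i j => by
      exact Rat.unique hη hL (U := U') hηU' hbne ((hrat i).res (inf_le_left : A i ⊓ A j ≤ A i))
        ((hrat j).res inf_le_right))
  refine ⟨U', hU'U, hyU', hηU', hdom, E, resO Y hU'U a, b, hα, hbne,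
    UfdExtend.isGen_of_locally fun x hx => ⟨A ⟨x, hx⟩, hA _, hxA _, by
      rw [show res L (hA ⟨x, hx⟩) E = e ⟨x, hx⟩ from hE ⟨x, hx⟩]; exact he _⟩, ?_⟩
  refine TopCat.Presheaf.IsSheaf.section_ext (f.fiber η).sheaf.2 fun w hw => ?_
  let x : O := ⟨f.fiberι η w, hw⟩
  refine ⟨f.fiberι η ⁻¹ᵁ A x, (f.fiberι η).preimage_mono (hA x), hxA x, ?_⟩
  show resO _ _ (cst f U'.1 O inf_le_right b * rho f φ O E) = resO _ _ (cst f U'.1 O inf_le_right (resO Y hU'U a))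
  rw [map_mul, cst_res f _ (hA x), cst_res f _ (hA x), ← rho_res f φ (hA x),
    show res L (hA x) E = e x from hE x]
  exact hrat x

end Groth.Agent.DivDescMod
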