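import Groth.Agent.DivDescMod.Fibre
import Groth.Agent.DivDesc.Normal
import Groth.Agent.ZeroSch.Basic
import Groth.Agent.TMul.CounitGen
import Mathlib

/-!
Sections of an invertible module which are rational on a trivialised generic fibre.
-/

set_option autoImplicit false
set_option linter.style.haveILetI false
set_option backward.isDefEq.respectTransparency false

universe u

open CategoryTheory CategoryTheory.Limits AlgebraicGeometry TopologicalSpace Opposite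
open Groth.Agent.QC (res resO res_res res_smul resO_resO app_res res_self resO_self)
open TMul (IsGen)

noncomputable section

namespace Groth.Agent.DivDescMod

variable {X Y : Scheme.{u}} (f : X ⟶ Y) {η : Y}

/-- The fibre at a point of an open subscheme. -/
theorem exists_fibre_restrict {U : Y.Opens} {V : X.Opens} (e : V ≤ f ⁻¹ᵁ U) (y : U.toScheme) :
    ∃ j : (f.resLE U V e).fiber y ⟶ f.fiber (U.ι y), IsOpenImmersion j := by
  let f' := f.resLE U V e
  let g' := U.toScheme.fromSpecResidueField y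
  let i₂ := Spec.map (U.ι.residueFieldMap y)
  have h1 : (f' ≫ U.ι) ≫ 𝟙 Y = V.ι ≫ f := by rw [Category.comp_id, Scheme.Hom.resLE_comp_ι]
  have h2 : (g' ≫ U.ι) ≫ 𝟙 Y = i₂ ≫ Y.fromSpecResidueField (U.ι y) := by
    rw [Category.comp_id, Scheme.Hom.SpecMap_residueFieldMap_fromSpecResidueField]
  let a : pullback f' g' ⟶ pullback (f' ≫ U.ι) (g' ≫ U.ι) :=
    pullback.map f' g' (f' ≫ U.ι) (g' ≫ U.ι) (𝟙 _) (𝟙 _) U.ι (by simp) (by simp)
  let b : pullback (f' ≫ U.ι) (g' ≫ U.ι) ⟶ f.fiber (U.ι y) :=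
    pullback.map (f' ≫ U.ι) (g' ≫ U.ι) f (Y.fromSpecResidueField (U.ι y)) V.ι i₂ (𝟙 Y) h1 h2
  haveI : IsIso a := by
    refine ⟨pullback.lift (pullback.fst _ _) (pullback.snd _ _) ((cancel_mono U.ι).1 ?_), ?_, ?_⟩
    · rw [Category.assoc, Category.assoc]
      exact pullback.condition
    · ext <;> simp [a]
    · ext <;> simp [a]
  haveI : IsOpenImmersion b :=
    MorphismProperty.pullbackMap (P := @IsOpenImmersion) inferInstance inferInstance
      (by simpa using h1) (by simpa using h2)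
  exact ⟨a ≫ b, inferInstance⟩

variable {L : X.Modules} (φ : (Scheme.Modules.pullback (f.fiberι η)).obj L ≅ Coh.structureModule (f.fiber η))

/-- A section measured on the fibre. -/
def rho (O : X.Opens) : Γ(L, O) →+ Γ(f.fiber η, f.fiberι η ⁻¹ᵁ O) :=
  AddMonoidHom.mk' (fun t => φ.hom.app (f.fiberι η ⁻¹ᵁ O) (ProjMor.eta (f.fiberι η) L O t))
    fun s t => by
      rw [map_add]
      exact map_add _ _ _

theorem rho_res {O' O : X.Opens} (h : O' ≤ O) (t : Γ(L, O)) :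
    rho f φ O' (res L h t) = resO (f.fiber η) ((f.fiberι η).preimage_mono h) (rho f φ O t) := by
  show φ.hom.app (f.fiberι η ⁻¹ᵁ O') (ProjMor.eta (f.fiberι η) L O' (res L h t)) = _
  rw [← ProjMor.eta_res, ← app_res]
  rfl

theorem rho_smul {O : X.Opens} (c : Γ(X, O)) (t : Γ(L, O)) :
    rho f φ O (c • t) = (f.fiberι η).app O c * rho f φ O t := by
  show φ.hom.app (f.fiberι η ⁻¹ᵁ O) (ProjMor.eta (f.fiberι η) L O (c • t)) = _
  rw [ProjMor.eta_smul, Scheme.Modules.Hom.app_smul]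
  rfl

theorem isUnit_rho {O : X.Opens} {g : Γ(L, O)} (hg : IsGen g) : IsUnit (rho f φ O g) := by
  have hb := (C1Cap.isGen_eta (f.fiberι η) hg) _ le_rfl
  obtain ⟨t, ht⟩ := (ConcreteCategory.bijective_of_isIso (φ.hom.app (f.fiberι η ⁻¹ᵁ O))).2
    (1 : Γ(f.fiber η, f.fiberι η ⁻¹ᵁ O))
  obtain ⟨c, hc⟩ := hb.2 t
  refine IsUnit.of_mul_eq_one_right c ?_
  rw [← ht, ← hc]
  simp only [res_self]
  exact (Scheme.Modules.Hom.app_smul φ.hom c (ProjMor.eta (f.fiberι η) L O g)).symm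

theorem app_resO {O' O : X.Opens} (h : O' ≤ O) (c : Γ(X, O)) :
    (f.fiberι η).app O' (resO X h c) = resO (f.fiber η) ((f.fiberι η).preimage_mono h) ((f.fiberι η).app O c) :=
  congr($((f.fiberι η).naturality (homOfLE h).op) c)

/-- A function of the base on the fibre. -/
def cst (U : Y.Opens) (O : X.Opens) (e : O ≤ f ⁻¹ᵁ U) : Γ(Y, U) →+* Γ(f.fiber η, f.fiberι η ⁻¹ᵁ O) :=
  ((f.fiberι η).app O).hom.comp (f.appLE U O e).hom

theorem resO_appLE {U : Y.Opens} {O' O : X.Opens} (e : O ≤ f ⁻¹ᵁ U) (h : O' ≤ O) (a : Γ(Y, U)) :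
    resO X h (f.appLE U O e a) = f.appLE U O' (h.trans e) a :=
  congr($(f.appLE_map e (homOfLE h).op) a)

theorem cst_res {U : Y.Opens} {O' O : X.Opens} (e : O ≤ f ⁻¹ᵁ U) (h : O' ≤ O) (a : Γ(Y, U)) :
    resO (f.fiber η) ((f.fiberι η).preimage_mono h) (cst f (η := η) U O e a) = cst f U O' (h.trans e) a := by
  show resO _ _ ((f.fiberι η).app O (f.appLE U O e a)) = (f.fiberι η).app O' (f.appLE U O' _ a)
  rw [← app_resO f h, resO_appLE f e h]

theorem appLE_resO {U' U : Y.Opens} {O : X.Opens} (h : U' ≤ U) (e : O ≤ f ⁻¹ᵁ U') (a : Γ(Y, U)) :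
    f.appLE U' O e (resO Y h a) = f.appLE U O (e.trans (f.preimage_mono h)) a :=
  congr($(f.map_appLE e (homOfLE h).op) a)

theorem cst_base {U' U : Y.Opens} {O : X.Opens} (h : U' ≤ U) (e : O ≤ f ⁻¹ᵁ U') (a : Γ(Y, U)) :
    cst f (η := η) U' O e (resO Y h a) = cst f U O (e.trans (f.preimage_mono h)) a := by
  show (f.fiberι η).app O (f.appLE U' O e (resO Y h a)) = (f.fiberι η).app O (f.appLE U O _ a)
  rw [appLE_resO]

theorem rho_appLE_smul {U : Y.Opens} {O : X.Opens} (e : O ≤ f ⁻¹ᵁ U) (a : Γ(Y, U)) (t : Γ(L, O)) :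
    rho f φ O (f.appLE U O e a • t) = cst f U O e a * rho f φ O t := rho_smul f φ _ t

/-- The section is `a / b` on the fibre. -/
def Rat (U : Y.Opens) (O : X.Opens) (e : O ≤ f ⁻¹ᵁ U) (t : Γ(L, O)) (a b : Γ(Y, U)) : Prop :=
  cst f U O e b * rho f φ O t = cst f U O e a

variable {f φ}

theorem Rat.res {U : Y.Opens} {O' O : X.Opens} {e : O ≤ f ⁻¹ᵁ U} {t : Γ(L, O)} {a b : Γ(Y, U)}
    (h : Rat f φ U O e t a b) (hO : O' ≤ O) : Rat f φ U O' (hO.trans e) (Groth.Agent.QC.res L hO t) a b := by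
  have := congrArg (resO (f.fiber η) ((f.fiberι η).preimage_mono hO)) h
  rw [map_mul, cst_res f e hO, cst_res f e hO, ← rho_res f φ hO] at this
  exact this

theorem Rat.base {U' U : Y.Opens} {O : X.Opens} {e : O ≤ f ⁻¹ᵁ U} {t : Γ(L, O)} {a b : Γ(Y, U)}
    (h : Rat f φ U O e t a b) (hU : U' ≤ U) (e' : O ≤ f ⁻¹ᵁ U') :
    Rat f φ U' O e' t (resO Y hU a) (resO Y hU b) := by
  show cst f U' O e' (resO Y hU b) * _ = cst f U' O e' (resO Y hU a)
  rw [cst_base, cst_base]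
  exact h

theorem resO_ne_zero {U' U : Y.Opens} (hU : IsAffineOpen U) [IsDomain Γ(Y, U)] (h : U' ≤ U)
    (hη : IsField (Y.presheaf.stalk η)) (hη' : η ∈ U') {a : Γ(Y, U)} (ha : a ≠ 0) : resO Y h a ≠ 0 := by
  intro h0
  have hu := (Y.mem_basicOpen a η (h hη')).1 (mem_basicOpen_of_ne_zero hη (U := ⟨U, hU⟩) (h hη') ha)
  have h1 : Y.presheaf.germ U η (h hη') a = 0 := by
    rw [← TopCat.Presheaf.germ_res_apply Y.presheaf (homOfLE h) η hη' a]
    refine (congrArg (Y.presheaf.germ U' η hη') h0).trans ?_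
    exact map_zero _
  rw [h1] at hu
  exact not_isUnit_zero hu

section Vanish

variable [Flat f] (hη : IsField (Y.presheaf.stalk η))
include hη

theorem eq_zero_of_rho (hL : PicF.IsInvertible L) {U : Y.affineOpens} [IsDomain Γ(Y, U.1)] (hU : η ∈ U.1)
    {O : X.Opens} (e : O ≤ f ⁻¹ᵁ U.1) {t : Γ(L, O)} (h : rho f φ O t = 0) : t = 0 := by
  refine Groth.Agent.QC.section_eq_of_locally fun x hx => ?_
  obtain ⟨W, g, hxW, hg⟩ := TMul.exists_isGen hL x
  refine ⟨O ⊓ W, inf_le_left, ⟨hx, hxW⟩, ?_⟩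
  rw [map_zero]
  obtain ⟨c, hc⟩ := (hg (O ⊓ W) inf_le_right).2 (Groth.Agent.QC.res L inf_le_left t)
  simp only at hc
  rw [← hc]
  have h0 : rho f φ (O ⊓ W) (c • Groth.Agent.QC.res L inf_le_right g) = 0 := by
    rw [hc, rho_res, h, map_zero]
  rw [rho_smul] at h0
  have hc0 : (f.fiberι η).app (O ⊓ W) c = 0 :=
    (isUnit_rho f φ (hg.res inf_le_right)).mul_left_eq_zero.1 h0
  rw [eq_zero_of_fibre f hη hU (inf_le_left.trans e) c hc0, zero_smul]

/-- A rational section is determined by its fraction. -/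
theorem Rat.unique (hL : PicF.IsInvertible L) {U : Y.affineOpens} [IsDomain Γ(Y, U.1)] (hU : η ∈ U.1)
    {O : X.Opens} {e : O ≤ f ⁻¹ᵁ U.1} {t t' : Γ(L, O)} {a b : Γ(Y, U.1)} (hb : b ≠ 0)
    (h : Rat f φ U.1 O e t a b) (h' : Rat f φ U.1 O e t' a b) : t = t' := by
  refine sub_eq_zero.1 (eq_zero_of_rho (φ := φ) hη hL hU e ?_)
  rw [map_sub, sub_eq_zero]
  refine (isUnit_fibre f hη hU e hb).mul_left_cancel ?_
  exact h.trans h'.symm

/-- Near every point a rational generator with given fraction of a finite family of charts. -/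
theorem exists_section (hL : PicF.IsInvertible L) {U : Y.affineOpens} [IsDomain Γ(Y, U.1)] (hU : η ∈ U.1)
    {κ : Type u} [Fintype κ] (W : κ → X.affineOpens) (hW : ∀ k, (W k).1 ≤ f ⁻¹ᵁ U.1)
    (g : ∀ k, Γ(L, (W k).1)) (hg : ∀ k, IsGen (g k)) :
    ∃ (a : Γ(Y, U.1)) (s : Γ(L, ⨆ k, (W k).1)), a ≠ 0 ∧
      Rat f φ U.1 (⨆ k, (W k).1) (iSup_le hW) s a 1 := by
  classical
  choose a b ha hb using fun k => exists_frac f hη hU (W k) (hW k)
    (((isUnit_rho f φ (hg k)).unit⁻¹ : _ˣ) : Γ(f.fiber η, f.fiberι η ⁻¹ᵁ (W k).1))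
  let A := ∏ k, a k
  have hA : A ≠ 0 := Finset.prod_ne_zero_iff.2 fun k _ => ha k
  have hs : ∀ k, ∃ s : Γ(L, (W k).1), Rat f φ U.1 (W k).1 (hW k) s A 1 := by
    intro k
    refine ⟨f.appLE U.1 (W k).1 (hW k) (∏ j ∈ Finset.univ.erase k, a j) • b k • g k, ?_⟩
    show cst f U.1 (W k).1 (hW k) 1 * _ = cst f U.1 (W k).1 (hW k) A
    rw [map_one, one_mul, rho_appLE_smul, rho_smul, ← hb k, mul_assoc, IsUnit.val_inv_mul, mul_one]
    show cst f U.1 (W k).1 (hW k) _ * cst f U.1 (W k).1 (hW k) (a k) = _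
    rw [← map_mul]
    exact congrArg _ (Finset.prod_erase_mul _ _ (Finset.mem_univ k))
  choose s hs using hs
  obtain ⟨S, hS, -⟩ := TopCat.Sheaf.existsUnique_gluing' (Groth.Agent.QC.abSheaf L) (fun k => (W k).1)
    (⨆ k, (W k).1) (fun k => homOfLE (le_iSup (fun k => (W k).1) k)) le_rfl s (fun i j => by
      exact Rat.unique hη hL hU one_ne_zero ((hs i).res (inf_le_left : (W i).1 ⊓ (W j).1 ≤ (W i).1))
        ((hs j).res inf_le_right))
  refine ⟨A, S, hA, ?_⟩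
  show cst f U.1 _ (iSup_le hW) 1 * rho f φ _ S = cst f U.1 _ (iSup_le hW) A
  rw [map_one, one_mul]
  refine TopCat.Presheaf.IsSheaf.section_ext (f.fiber η).sheaf.2 fun w hw => ?_
  obtain ⟨k, hk⟩ := Opens.mem_iSup.1 (show f.fiberι η w ∈ ⨆ k, (W k).1 from hw)
  refine ⟨f.fiberι η ⁻¹ᵁ (W k).1, (f.fiberι η).preimage_mono (le_iSup (fun k => (W k).1) k), hk, ?_⟩
  show resO _ _ (rho f φ _ S) = resO _ _ (cst f U.1 _ (iSup_le hW) A)
  rw [← rho_res f φ (le_iSup (fun k => (W k).1) k), cst_res f (iSup_le hW) (le_iSup (fun k => (W k).1) k)]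
  have h2 : Groth.Agent.QC.res L (le_iSup (fun k => (W k).1) k) S = s k := hS k
  rw [h2]
  have h3 := hs k
  change cst f U.1 (W k).1 (hW k) 1 * _ = _ at h3
  rwa [map_one, one_mul] at h3

end Vanish

end Groth.Agent.DivDescMod
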